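import Mathlib.Data.Int.Notation
import Mathlib.Data.Nat.Notation

/-!
# Data for the element of cycle type seven cubed

Machine-made lists: the permutation, half-integral factors of automorphisms centralising or inverting it,
fixed vectors with dual vectors, and the images of classes. Everything is checked in the importing files.
-/

set_option autoImplicit false
set_option maxRecDepth 20000

namespace CfsgLib.MonsterType.Seven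

/-- The permutation. -/
def sigL : List ℕ := [13, 16, 2, 4, 14, 0, 6, 19, 3, 20, 9, 18, 8, 11, 1, 21, 12, 22, 17, 15, 7, 10, 5, 23]

/-- Twice the factors. -/
def matData : List (List (List (ℕ × ℤ))) :=
  [[[(0, 1), (1, -1), (2, -1), (3, -1)], [(0, -1), (1, 1), (2, -1), (3, -1)], [(0, -1), (1, -1), (2, 1), (3, -1)], [(0, -1), (1, -1), (2, -1), (3, 1)], [(4, -1), (7, 1), (10, 1), (12, 1)], [(5, -1), (14, 1), (17, 1), (23, 1)], [(6, -1), (9, 1), (11, 1), (22, 1)], [(4, 1), (7, -1), (10, 1), (12, 1)], [(8, -1), (15, 1), (16, 1), (19, 1)], [(6, 1), (9, -1), (11, 1), (22, 1)], [(4, 1), (7, 1), (10, -1), (12, 1)], [(6, 1), (9, 1), (11, -1), (22, 1)], [(4, 1), (7, 1), (10, 1), (12, -1)], [(13, -1), (18, 1), (20, 1), (21, 1)], [(5, 1), (14, -1), (17, 1), (23, 1)], [(8, 1), (15, -1), (16, 1), (19,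 1)], [(8, 1), (15, 1), (16, -1), (19, 1)], [(5, 1), (14, 1), (17, -1), (23, 1)], [(13, 1), (18, -1), (20, 1), (21, 1)], [(8, 1), (15, 1), (16, 1), (19, -1)], [(13, 1), (18, 1), (20, -1), (21, 1)], [(13, 1), (18, 1), (20, 1), (21, -1)], [(6, 1), (9, 1), (11, 1), (22, -1)], [(5, 1), (14, 1), (17, 1), (23, -1)]],
   [[(0, -1), (9, 1), (14, 1), (18, 1)], [(1, -1), (11, 1), (17, 1), (20, 1)], [(2, -1), (6, 1), (13, 1), (23, 1)], [(3, -1), (5, 1), (21, 1), (22, 1)], [(4, 1), (7, -1), (8, -1), (12, -1)], [(3, 1), (5, -1), (21, 1), (22, 1)], [(2, 1), (6, -1), (13, 1), (23, 1)], [(4, -1), (7, 1), (8, -1), (12, -1)], [(4, -1), (7, -1), (8, 1), (12, -1)], [(0, 1), (9, -1), (14, 1), (18, 1)], [(10, -1), (15, 1), (16, 1), (19, 1)], [(1, 1), (11, -1), (17, 1), (20, 1)], [(4, -1), (7, -1), (8, -1), (12,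 1)], [(2, 1), (6, 1), (13, -1), (23, 1)], [(0, 1), (9, 1), (14, -1), (18, 1)], [(10, 1), (15, -1), (16, 1), (19, 1)], [(10, 1), (15, 1), (16, -1), (19, 1)], [(1, 1), (11, 1), (17, -1), (20, 1)], [(0, 1), (9, 1), (14, 1), (18, -1)], [(10, 1), (15, 1), (16, 1), (19, -1)], [(1, 1), (11, 1), (17, 1), (20, -1)], [(3, 1), (5, 1), (21, -1), (22, 1)], [(3, 1), (5, 1), (21, 1), (22, -1)], [(2, 1), (6, 1), (13, 1), (23, -1)]],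
   [[(2, -1), (9, -1), (20, 1), (21, 1)], [(2, -1), (9, 1), (20, -1), (21, 1)], [(0, -1), (5, -1), (6, -1), (17, -1)], [(2, -1), (9, 1), (20, 1), (21, -1)], [(3, -1), (10, -1), (12, 1), (22, 1)], [(4, -1), (14, -1), (15, -1), (18, -1)], [(1, -1), (8, -1), (11, 1), (19, 1)], [(7, -1), (13, 1), (16, 1), (23, -1)], [(3, 1), (10, -1), (12, -1), (22, 1)], [(7, -1), (13, -1), (16, 1), (23, 1)], [(4, -1), (14, 1), (15, 1), (18, -1)], [(4, 1), (14, 1), (15, -1), (18, -1)], [(1, -1), (8, 1), (11, 1), (19, -1)], [(0, 1), (5, -1), (6, -1), (17, 1)], [(1, -1), (8, -1), (11, -1), (19, -1)], [(4, 1), (14, -1), (15, 1), (18, -1)], [(7, 1), (13, -1), (16, 1), (23, -1)], [(3, -1), (10, -1), (12, -1), (22, -1)], [(2, -1), (9, -1), (20, -1), (21, -1)], [(1, -1), (8, 1), (11, -1), (19, 1)], [(0, -1), (5, -1),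 (6, 1), (17, 1)], [(0, 1), (5, -1), (6, 1), (17, -1)], [(3, 1), (10, -1), (12, 1), (22, -1)], [(7, 1), (13, 1), (16, 1), (23, 1)]],
   [[(14, 2)], [(5, 2)], [(23, 2)], [(18, 2)], [(17, 2)], [(4, 2)], [(6, 2)], [(20, 2)], [(11, 2)], [(10, 2)], [(21, 2)], [(16, 2)], [(13, 2)], [(1, 2)], [(22, 2)], [(19, 2)], [(0, 2)], [(8, 2)], [(12, 2)], [(7, 2)], [(9, 2)], [(15, 2)], [(3, 2)], [(2, 2)]],
   [[(5, 2)], [(9, 2)], [(2, 2)], [(15, 2)], [(21, 2)], [(22, 2)], [(23, 2)], [(1, 2)], [(19, 2)], [(4, 2)], [(3, 2)], [(13, 2)], [(7, 2)], [(0, 2)], [(10, 2)], [(12, 2)], [(20, 2)], [(18, 2)], [(11, 2)], [(16, 2)], [(14, 2)], [(8, 2)], [(17, 2)], [(6, 2)]],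
   [[(0, 1), (5, -1), (6, -1), (9, -1)], [(1, -1), (7, 1), (10, 1), (14, 1)], [(2, -1), (17, 1), (20, 1), (21, 1)], [(3, -1), (15, 1), (19, 1), (23, 1)], [(4, -1), (8, 1), (13, 1), (22, 1)], [(0, -1), (5, 1), (6, -1), (9, -1)], [(0, -1), (5, -1), (6, 1), (9, -1)], [(1, 1), (7, -1), (10, 1), (14, 1)], [(4, 1), (8, -1), (13, 1), (22, 1)], [(0, -1), (5, -1), (6, -1), (9, 1)], [(1, 1), (7, 1), (10, -1), (14, 1)], [(11, -1), (12, 1), (16, 1), (18, 1)], [(11, 1), (12, -1), (16, 1), (18, 1)], [(4, 1), (8, 1), (13, -1), (22, 1)], [(1, 1), (7, 1), (10, 1), (14, -1)], [(3, 1), (15, -1), (19, 1), (23, 1)], [(11, 1), (12, 1), (16, -1), (18, 1)], [(2, 1), (17, -1), (20, 1), (21, 1)], [(11, 1), (12, 1), (16, 1), (18, -1)], [(3, 1), (15, 1), (19, -1), (23, 1)], [(2, 1), (17, 1), (20, -1), (21, 1)], [(2,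 1), (17, 1), (20, 1), (21, -1)], [(4, 1), (8, 1), (13, 1), (22, -1)], [(3, 1), (15, 1), (19, 1), (23, -1)]],
   [[(2, 1), (11, 1), (19, 1), (20, -1)], [(2, -1), (11, -1), (19, 1), (20, -1)], [(2, -1), (11, 1), (19, 1), (20, 1)], [(2, -1), (11, 1), (19, -1), (20, -1)], [(1, 1), (8, 1), (9, 1), (21, -1)], [(0, -1), (6, 1), (15, -1), (18, -1)], [(7, -1), (10, -1), (12, -1), (23, 1)], [(1, -1), (8, 1), (9, 1), (21, 1)], [(4, 1), (5, 1), (14, 1), (17, -1)], [(7, -1), (10, -1), (12, 1), (23, -1)], [(1, 1), (8, -1), (9, 1), (21, 1)], [(7, 1), (10, -1), (12, 1), (23, 1)], [(1, 1), (8, 1), (9, -1), (21, 1)], [(3, 1), (13, 1), (16, 1), (22, -1)], [(0, 1), (6, 1), (15, -1), (18, 1)], [(4, -1), (5, 1), (14, 1), (17, 1)], [(4, 1), (5, -1), (14, 1), (17, 1)], [(0, 1), (6, -1), (15, -1), (18, -1)], [(3,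 1), (13, -1), (16, 1), (22, 1)], [(4, 1), (5, 1), (14, -1), (17, 1)], [(3, 1), (13, -1), (16, -1), (22, -1)], [(3, -1), (13, -1), (16, 1), (22, -1)], [(7, -1), (10, 1), (12, 1), (23, 1)], [(0, 1), (6, 1), (15, 1), (18, -1)]],
   [[(0, 2)], [(1, 2)], [(2, 2)], [(12, 2)], [(14, 2)], [(18, 2)], [(6, 2)], [(21, 2)], [(4, 2)], [(15, 2)], [(9, 2)], [(13, 2)], [(16, 2)], [(17, 2)], [(8, 2)], [(10, 2)], [(3, 2)], [(11, 2)], [(22, 2)], [(7, 2)], [(20, 2)], [(19, 2)], [(5, 2)], [(23, 2)]]]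

/-- Classes reached from the base class, with words, the first seven commuting and the rest inverting. -/
def orbData : List (ℕ × List ℕ) :=
  [(1, []), (2, [0, 1, 2]), (3, [0, 1, 2, 3, 0, 1, 2]), (4, [3, 0, 1, 2]), (5, [4, 0, 1, 2, 0, 1, 2]), (6, [4, 3, 0, 1, 2]), (7, [0, 1, 2, 0, 1, 2]), (8, [0, 5, 6]), (16, [4, 0, 5, 6]), (24, [3, 4, 0, 5, 6]), (32, [0, 1, 2, 0, 5, 6]), (40, [4, 0, 1, 2, 0, 1, 2, 0, 5, 6]), (48, [0, 1, 2, 0, 1, 2, 0, 5, 6]), (56, [0, 1, 2, 3, 4, 0, 5, 6])]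

/-- The images of the basis under the words. -/
def orbImgs : List (List ℕ) :=
  [[1, 2, 4, 8, 16, 32], [2, 7, 3, 32, 24, 48], [3, 6, 1, 48, 24, 8], [4, 7, 5, 32, 16, 56], [5, 4, 7, 40, 56, 48], [6, 5, 7, 32, 8, 56], [7, 6, 5, 48, 56, 40], [8, 56, 16, 6, 1, 5], [16, 56, 8, 4, 1, 7], [24, 48, 8, 2, 1, 7], [32, 8, 24, 4, 2, 1], [40, 32, 56, 3, 5, 2], [48, 32, 56, 3, 7, 2], [56, 40, 32, 7, 2, 6]]

/-- A word whose conjugation is the fifth power. -/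
def powWord : List ℕ := [7, 0, 5, 6]

/-- The fixed basis. -/
def basisL : List (List ℤ) :=
  [[0, 0, 0, 0, 0, 0, 0, 0, 0, 0, 0, 0, 0, 0, 0, 0, 0, 0, 0, 0, 0, 0, 0, 8], [-2, 0, -2, 0, 0, -2, -4, 0, 0, 0, 0, -2, 0, -2, 0, 0, 0, -2, -2, 0, 0, 0, -2, -4], [0, -2, -4, -2, -2, 0, -4, 0, -2, 0, 0, 0, -2, 0, -2, 0, -2, 0, 0, 0, 0, 0, 0, -2], [-2, -2, -2, -2, -2, -2, 0, 0, -2, 0, 0, -2, -2, -2, -2, 0, -2, -2, -2, 0, 0, 0, -2, -2], [-2, 0, -2, 0, 0, -2, -2, -2, 0, -2, -2, -2, 0, -2, 0, -2, 0, -2, -2, -2, -2, -2, -2, 0], [-1, -1, -5, -1, -1, -1, 3, -1, -1, -1, -1, -1, -1, -1, -1, -1, -1, -1, -1, -1, -1, -1, -1, 3]]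

/-- Dual vectors. -/
def dualL : List (List ℤ) :=
  [[5, 1, 1, 1, 1, 1, 5, 1, 1, 1, 1, 1, 1, 1, 1, 1, 1, 1, 1, 1, 1, 1, 1, -11], [2, 0, 0, 0, 0, 0, 0, 0, 0, 0, 0, 0, 2, 0, 2, 0, 2, 2, 2, 0, 0, 0, 2, 10], [2, 0, 2, 0, 0, 0, 4, 0, 0, 0, 0, 0, 4, 2, 2, 2, 2, 2, 4, 0, 2, 0, 4, 8], [6, 0, 0, 0, 0, 0, 4, 0, 0, 0, 0, 0, 2, 0, 2, 0, 2, 2, 2, 0, 0, 0, 2, 2], [4, 0, 2, 0, 0, 0, 4, 0, 0, 0, 0, 0, 2, 2, 0, 2, 0, 0, 2, 0, 2, 0, 2, -6], [0, 0, 0, 0, 0, 0, 0, 0, 0, 0, 0, 0, 0, 0, 0, 0, 0, 0, 0, 0, 0, 0, 0, 8]]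

/-- The classes of the orbit sums of the generators. -/
def spanW : List ℕ := [52, 1, 14, 0, 14, 0, 0, 14, 26, 26, 0, 26, 26, 14, 0, 14, 0, 26, 0, 14, 14, 26, 26, 26, 14, 17, 20, 18, 26, 5, 14, 17, 11, 22, 14, 14, 11]

/-- Short representatives of the other classes. -/
def repData : List (ℕ × List ℤ) :=
  [(9, [0, 0, 0, 0, 0, 0, -2, -2, 0, -2, -2, 0, 0, 0, 0, -2, 0, 0, 0, -2, -2, -2, 0, 0]),
   (10, [0, 2, 0, 2, 2, 0, -4, 0, 2, 0, 0, 0, 2, 0, 2, 0, 2, 0, 0, 0, 0, 0, 0, -2]),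
   (11, [0, -2, 0, -2, -2, 0, -4, 0, -2, 0, 0, 0, -2, 0, -2, 0, -2, 0, 0, 0, 0, 0, 0, 2]),
   (12, [2, 0, -2, 0, 0, 2, -4, 0, 0, 0, 0, 2, 0, 2, 0, 0, 0, 2, 2, 0, 0, 0, 2, 0]),
   (13, [2, 0, -2, 0, 0, 2, 4, 0, 0, 0, 0, 2, 0, 2, 0, 0, 0, 2, 2, 0, 0, 0, 2, 0]),
   (14, [0, 0, -4, 0, 0, 0, 0, 0, 0, 0, 0, 0, 0, 0, 0, 0, 0, 0, 0, 0, 0, 0, 0, 4]),
   (15, [0, 0, -4, 0, 0, 0, 0, 0, 0, 0, 0, 0, 0, 0, 0, 0, 0, 0, 0, 0, 0, 0, 0, -4]),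
   (17, [0, -2, 0, -2, -2, 0, 0, 0, -2, 0, 0, 0, -2, 0, -2, 0, -2, 0, 0, 0, 0, 0, 0, -2]),
   (18, [0, 0, 0, 0, 0, 0, -2, 2, 0, 2, 2, 0, 0, 0, 0, 2, 0, 0, 0, 2, 2, 2, 0, -4]),
   (19, [0, 0, 0, 0, 0, 0, -2, 2, 0, 2, 2, 0, 0, 0, 0, 2, 0, 0, 0, 2, 2, 2, 0, 4]),
   (20, [0, 0, -4, 0, 0, 0, 4, 0, 0, 0, 0, 0, 0, 0, 0, 0, 0, 0, 0, 0, 0, 0, 0, 0]),
   (21, [0, 0, -4, 0, 0, 0, -4, 0, 0, 0, 0, 0, 0, 0, 0, 0, 0, 0, 0, 0, 0, 0, 0, 0]),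
   (22, [2, 0, -2, 0, 0, 2, 0, 0, 0, 0, 0, 2, 0, 2, 0, 0, 0, 2, 2, 0, 0, 0, 2, -4]),
   (23, [2, 0, -2, 0, 0, 2, 0, 0, 0, 0, 0, 2, 0, 2, 0, 0, 0, 2, 2, 0, 0, 0, 2, 4]),
   (25, [-2, 0, -2, 0, 0, -2, 0, 0, 0, 0, 0, -2, 0, -2, 0, 0, 0, -2, -2, 0, 0, 0, -2, 0]),
   (26, [0, 0, 0, 0, 0, 0, -4, 0, 0, 0, 0, 0, 0, 0, 0, 0, 0, 0, 0, 0, 0, 0, 0, 4]),
   (27, [0, 0, 0, 0, 0, 0, -4, 0, 0, 0, 0, 0, 0, 0, 0, 0, 0, 0, 0, 0, 0, 0, 0, -4]),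
   (28, [0, 0, -4, 0, 0, 0, -2, 2, 0, 2, 2, 0, 0, 0, 0, 2, 0, 0, 0, 2, 2, 2, 0, 0]),
   (29, [0, 0, -4, 0, 0, 0, 2, -2, 0, -2, -2, 0, 0, 0, 0, -2, 0, 0, 0, -2, -2, -2, 0, 0]),
   (30, [0, 2, -4, 2, 2, 0, 0, 0, 2, 0, 0, 0, 2, 0, 2, 0, 2, 0, 0, 0, 0, 0, 0, -2]),
   (31, [0, -2, -4, -2, -2, 0, 0, 0, -2, 0, 0, 0, -2, 0, -2, 0, -2, 0, 0, 0, 0, 0, 0, 2]),
   (33, [1, 1, -3, 1, 1, 1, -3, 1, 1, 1, 1, 1, 1, 1, 1, 1, 1, 1, 1, 1, 1, 1, 1, -3]),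
   (34, [1, -1, -3, -1, -1, 1, -1, -1, -1, -1, -1, 1, -1, 1, -1, -1, -1, 1, 1, -1, -1, -1, 1, -1]),
   (35, [-1, 1, -5, 1, 1, -1, 1, 1, 1, 1, 1, -1, 1, -1, 1, 1, 1, -1, -1, 1, 1, 1, -1, 1]),
   (36, [-1, 1, -1, 1, 1, -1, -1, -1, 1, -1, -1, -1, 1, -1, 1, -1, 1, -1, -1, -1, -1, -1, -1, -3]),
   (37, [-1, 1, -1, 1, 1, -1, -1, -1, 1, -1, -1, -1, 1, -1, 1, -1, 1, -1, -1, -1, -1, -1, -1, 5]),
   (38, [-1, -1, -1, -1, -1, -1, -3, 1, -1, 1, 1, -1, -1, -1, -1, 1, -1, -1, -1, 1, 1, 1, -1, -1]),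
   (39, [-1, -1, -1, -1, -1, -1, 5, 1, -1, 1, 1, -1, -1, -1, -1, 1, -1, -1, -1, 1, 1, 1, -1, -1]),
   (41, [1, 1, -3, 1, 1, 1, 3, -1, 1, -1, -1, 1, 1, 1, 1, -1, 1, 1, 1, -1, -1, -1, 1, -3]),
   (42, [-1, 1, -5, 1, 1, -1, -1, -1, 1, -1, -1, -1, 1, -1, 1, -1, 1, -1, -1, -1, -1, -1, -1, 1]),
   (43, [1, -1, -3, -1, -1, 1, 1, 1, -1, 1, 1, 1, -1, 1, -1, 1, -1, 1, 1, 1, 1, 1, 1, -1]),
   (44, [-1, 1, -1, 1, 1, -1, 1, 1, 1, 1, 1, -1, 1, -1, 1, 1, 1, -1, -1, 1, 1, 1, -1, 5]),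
   (45, [-1, 1, -1, 1, 1, -1, 1, 1, 1, 1, 1, -1, 1, -1, 1, 1, 1, -1, -1, 1, 1, 1, -1, -3]),
   (46, [-1, -1, -1, -1, -1, -1, 3, -1, -1, -1, -1, -1, -1, -1, -1, -1, -1, -1, -1, -1, -1, -1, -1, -1]),
   (47, [-1, -1, -1, -1, -1, -1, -5, -1, -1, -1, -1, -1, -1, -1, -1, -1, -1, -1, -1, -1, -1, -1, -1, -1]),
   (49, [1, -1, -3, -1, -1, 1, -3, 1, -1, 1, 1, 1, -1, 1, -1, 1, -1, 1, 1, 1, 1, 1, 1, 3]),
   (50, [-1, -1, -5, -1, -1, -1, 1, 1, -1, 1, 1, -1, -1, -1, -1, 1, -1, -1, -1, 1, 1, 1, -1, -1]),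
   (51, [1, 1, -3, 1, 1, 1, -1, -1, 1, -1, -1, 1, 1, 1, 1, -1, 1, 1, 1, -1, -1, -1, 1, 1]),
   (52, [-1, -1, -1, -1, -1, -1, -1, -1, -1, -1, -1, -1, -1, -1, -1, -1, -1, -1, -1, -1, -1, -1, -1, 3]),
   (53, [-1, -1, -1, -1, -1, -1, -1, -1, -1, -1, -1, -1, -1, -1, -1, -1, -1, -1, -1, -1, -1, -1, -1, -5]),
   (54, [-1, 1, -1, 1, 1, -1, 5, 1, 1, 1, 1, -1, 1, -1, 1, 1, 1, -1, -1, 1, 1, 1, -1, 1]),
   (55, [-1, 1, -1, 1, 1, -1, -3, 1, 1, 1, 1, -1, 1, -1, 1, 1, 1, -1, -1, 1, 1, 1, -1, 1]),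
   (57, [1, -1, -3, -1, -1, 1, 3, -1, -1, -1, -1, 1, -1, 1, -1, -1, -1, 1, 1, -1, -1, -1, 1, 3]),
   (58, [1, 1, -3, 1, 1, 1, 1, 1, 1, 1, 1, 1, 1, 1, 1, 1, 1, 1, 1, 1, 1, 1, 1, 1]),
   (59, [-1, -1, -5, -1, -1, -1, -1, -1, -1, -1, -1, -1, -1, -1, -1, -1, -1, -1, -1, -1, -1, -1, -1, -1]),
   (60, [-1, -1, -1, -1, -1, -1, 1, 1, -1, 1, 1, -1, -1, -1, -1, 1, -1, -1, -1, 1, 1, 1, -1, -5]),
   (61, [-1, -1, -1, -1, -1, -1, 1, 1, -1, 1, 1, -1, -1, -1, -1, 1, -1, -1, -1, 1, 1, 1, -1, 3]),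
   (62, [-1, 1, -1, 1, 1, -1, -5, -1, 1, -1, -1, -1, 1, -1, 1, -1, 1, -1, -1, -1, -1, -1, -1, 1]),
   (63, [-1, 1, -1, 1, 1, -1, 3, -1, 1, -1, -1, -1, 1, -1, 1, -1, 1, -1, -1, -1, -1, -1, -1, 1])]

/-- The centraliser in the Mathieu group. -/
def centData : List (List ℕ) :=
  [[0, 1, 2, 3, 4, 5, 6, 7, 8, 9, 10, 11, 12, 13, 14, 15, 16, 17, 18, 19, 20, 21, 22, 23],
   [13, 16, 2, 4, 14, 0, 6, 19, 3, 20, 9, 18, 8, 11, 1, 21, 12, 22, 17, 15, 7, 10, 5, 23],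
   [11, 12, 2, 14, 1, 13, 6, 15, 4, 7, 20, 17, 3, 18, 16, 10, 8, 5, 22, 21, 19, 9, 0, 23],
   [18, 8, 2, 1, 16, 11, 6, 21, 14, 19, 7, 22, 4, 17, 12, 9, 3, 0, 5, 10, 15, 20, 13, 23],
   [17, 3, 2, 16, 12, 18, 6, 10, 1, 15, 19, 5, 14, 22, 8, 20, 4, 13, 0, 9, 21, 7, 11, 23],
   [22, 4, 2, 12, 8, 17, 6, 9, 16, 21, 15, 0, 1, 5, 3, 7, 14, 11, 13, 20, 10, 19, 18, 23],
   [5, 14, 2, 8, 3, 22, 6, 20, 12, 10, 21, 13, 16, 0, 4, 19, 1, 18, 11, 7, 9, 15, 17, 23],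
   [0, 20, 2, 21, 10, 5, 23, 16, 15, 14, 4, 11, 19, 13, 9, 8, 7, 17, 18, 12, 1, 3, 22, 6],
   [13, 7, 2, 10, 9, 0, 23, 12, 21, 1, 14, 18, 15, 11, 20, 3, 19, 22, 17, 8, 16, 4, 5, 6],
   [11, 19, 2, 9, 20, 13, 23, 8, 10, 16, 1, 17, 21, 18, 7, 4, 15, 5, 22, 3, 12, 14, 0, 6],
   [18, 15, 2, 20, 7, 11, 23, 3, 9, 12, 16, 22, 10, 17, 19, 14, 21, 0, 5, 4, 8, 1, 13, 6],
   [17, 21, 2, 7, 19, 18, 23, 4, 20, 8, 12, 5, 9, 22, 15, 1, 10, 13, 0, 14, 3, 16, 11, 6],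
   [22, 10, 2, 19, 15, 17, 23, 14, 7, 3, 8, 0, 20, 5, 21, 16, 9, 11, 13, 1, 4, 12, 18, 6],
   [5, 9, 2, 15, 21, 22, 23, 1, 19, 4, 3, 13, 7, 0, 10, 12, 20, 18, 11, 16, 14, 8, 17, 6],
   [7, 16, 6, 4, 14, 20, 2, 11, 3, 0, 5, 15, 8, 19, 1, 17, 12, 10, 21, 18, 13, 22, 9, 23],
   [19, 12, 6, 14, 1, 7, 2, 18, 4, 13, 0, 21, 3, 15, 16, 22, 8, 9, 10, 17, 11, 5, 20, 23],
   [15, 8, 6, 1, 16, 19, 2, 17, 14, 11, 13, 10, 4, 21, 12, 5, 3, 20, 9, 22, 18, 0, 7, 23],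
   [21, 3, 6, 16, 12, 15, 2, 22, 1, 18, 11, 9, 14, 10, 8, 0, 4, 7, 20, 5, 17, 13, 19, 23],
   [10, 4, 6, 12, 8, 21, 2, 5, 16, 17, 18, 20, 1, 9, 3, 13, 14, 19, 7, 0, 22, 11, 15, 23],
   [9, 14, 6, 8, 3, 10, 2, 0, 12, 22, 17, 7, 16, 20, 4, 11, 1, 15, 19, 13, 5, 18, 21, 23],
   [20, 1, 6, 3, 4, 9, 2, 13, 8, 5, 22, 19, 12, 7, 14, 18, 16, 21, 15, 11, 0, 17, 10, 23],
   [7, 13, 6, 22, 5, 20, 23, 12, 17, 1, 14, 15, 18, 19, 0, 3, 11, 10, 21, 8, 16, 4, 9, 2],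
   [19, 11, 6, 5, 0, 7, 23, 8, 22, 16, 1, 21, 17, 15, 13, 4, 18, 9, 10, 3, 12, 14, 20, 2],
   [15, 18, 6, 0, 13, 19, 23, 3, 5, 12, 16, 10, 22, 21, 11, 14, 17, 20, 9, 4, 8, 1, 7, 2],
   [21, 17, 6, 13, 11, 15, 23, 4, 0, 8, 12, 9, 5, 10, 18, 1, 22, 7, 20, 14, 3, 16, 19, 2],
   [10, 22, 6, 11, 18, 21, 23, 14, 13, 3, 8, 20, 0, 9, 17, 16, 5, 19, 7, 1, 4, 12, 15, 2],
   [9, 5, 6, 18, 17, 10, 23, 1, 11, 4, 3, 7, 13, 20, 22, 12, 0, 15, 19, 16, 14, 8, 21, 2],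
   [20, 0, 6, 17, 22, 9, 23, 16, 18, 14, 4, 19, 11, 7, 5, 8, 13, 21, 15, 12, 1, 3, 10, 2],
   [1, 20, 23, 21, 10, 14, 2, 13, 15, 5, 22, 12, 19, 16, 9, 18, 7, 3, 8, 11, 0, 17, 4, 6],
   [16, 7, 23, 10, 9, 1, 2, 11, 21, 0, 5, 8, 15, 12, 20, 17, 19, 4, 3, 18, 13, 22, 14, 6],
   [12, 19, 23, 9, 20, 16, 2, 18, 10, 13, 0, 3, 21, 8, 7, 22, 15, 14, 4, 17, 11, 5, 1, 6],
   [8, 15, 23, 20, 7, 12, 2, 17, 9, 11, 13, 4, 10, 3, 19, 5, 21, 1, 14, 22, 18, 0, 16, 6],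
   [3, 21, 23, 7, 19, 8, 2, 22, 20, 18, 11, 14, 9, 4, 15, 0, 10, 16, 1, 5, 17, 13, 12, 6],
   [4, 10, 23, 19, 15, 3, 2, 5, 7, 17, 18, 1, 20, 14, 21, 13, 9, 12, 16, 0, 22, 11, 8, 6],
   [14, 9, 23, 15, 21, 4, 2, 0, 19, 22, 17, 16, 7, 1, 10, 11, 20, 8, 12, 13, 5, 18, 3, 6],
   [1, 0, 23, 17, 22, 14, 6, 7, 18, 9, 10, 12, 11, 16, 5, 15, 13, 3, 8, 19, 20, 21, 4, 2],
   [16, 13, 23, 22, 5, 1, 6, 19, 17, 20, 9, 8, 18, 12, 0, 21, 11, 4, 3, 15, 7, 10, 14, 2],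
   [12, 11, 23, 5, 0, 16, 6, 15, 22, 7, 20, 3, 17, 8, 13, 10, 18, 14, 4, 21, 19, 9, 1, 2],
   [8, 18, 23, 0, 13, 12, 6, 21, 5, 19, 7, 4, 22, 3, 11, 9, 17, 1, 14, 10, 15, 20, 16, 2],
   [3, 17, 23, 13, 11, 8, 6, 10, 0, 15, 19, 14, 5, 4, 18, 20, 22, 16, 1, 9, 21, 7, 12, 2],
   [4, 22, 23, 11, 18, 3, 6, 9, 13, 21, 15, 1, 0, 14, 17, 7, 5, 12, 16, 20, 10, 19, 8, 2],
   [14, 5, 23, 18, 17, 4, 6, 20, 11, 10, 21, 16, 13, 1, 22, 19, 0, 8, 12, 7, 9, 15, 3, 2]]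

/-- The images of the basis under the centraliser. -/
def centImgs : List (List ℕ) :=
  [[1, 2, 4, 8, 16, 32], [1, 2, 4, 8, 16, 32], [1, 2, 4, 8, 16, 32], [1, 2, 4, 8, 16, 32], [1, 2, 4, 8, 16, 32], [1, 2, 4, 8, 16, 32], [1, 2, 4, 8, 16, 32], [1, 2, 6, 16, 8, 32], [1, 2, 6, 16, 8, 32], [1, 2, 6, 16, 8, 32], [1, 2, 6, 16, 8, 32], [1, 2, 6, 16, 8, 32], [1, 2, 6, 16, 8, 32], [1, 2, 6, 16, 8, 32], [1, 6, 4, 24, 16, 32], [1, 6, 4, 24, 16, 32], [1, 6, 4, 24, 16, 32], [1, 6, 4, 24, 16, 32], [1, 6, 4, 24, 16, 32], [1, 6, 4, 24, 16, 32], [1, 6, 4, 24, 16, 32], [1, 6, 2, 16, 24, 32], [1, 6, 2, 16, 24, 32], [1, 6, 2, 16, 24, 32], [1, 6, 2, 16, 24, 32], [1, 6, 2, 16, 24, 32], [1, 6, 2, 16, 24, 32], [1, 6, 2, 16, 24, 32], [1, 4, 6, 24, 8, 32], [1, 4, 6, 24, 8, 32], [1, 4, 6, 24, 8, 32], [1, 4, 6, 24,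 8, 32], [1, 4, 6, 24, 8, 32], [1, 4, 6, 24, 8, 32], [1, 4, 6, 24, 8, 32], [1, 4, 2, 8, 24, 32], [1, 4, 2, 8, 24, 32], [1, 4, 2, 8, 24, 32], [1, 4, 2, 8, 24, 32], [1, 4, 2, 8, 24, 32], [1, 4, 2, 8, 24, 32], [1, 4, 2, 8, 24, 32]]

/-- The fixed code words. -/
def codeData : List ℕ := [0, 3704512, 8474906, 12179418, 4597797, 8302309, 13072703, 16777215]

/-- The images of the basis under the sign changes. -/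
def codeImgs : List (List ℕ) :=
  [[1, 2, 4, 8, 16, 32], [1, 3, 5, 8, 16, 40], [1, 3, 4, 8, 16, 48], [1, 2, 5, 8, 16, 56], [1, 2, 5, 8, 16, 56], [1, 3, 4, 8, 16, 48], [1, 3, 5, 8, 16, 40], [1, 2, 4, 8, 16, 32]]

/-- Admissible images of a moved and a fixed point of each cycle. -/
def okOne : List (List (ℕ × ℕ)) :=
  [[(0, 2), (1, 23), (3, 23), (4, 23), (5, 2), (7, 6), (8, 23), (9, 6), (10, 6), (11, 2), (12, 23), (13, 2), (14, 23), (15, 6), (16, 23), (17, 2), (18, 2), (19, 6), (20, 6), (21, 6), (22, 2)], [(0, 2), (1, 23), (3, 23), (4, 23), (5, 2), (7, 6), (8, 23), (9, 6), (10, 6), (11, 2), (12, 23), (13, 2), (14, 23), (15, 6), (16, 23), (17, 2), (18, 2), (19, 6), (20, 6), (21, 6), (22, 2)], [(0, 2), (1, 23), (3, 23), (4, 23), (5, 2), (7, 6), (8, 23), (9, 6), (10, 6), (11, 2), (12, 23), (13,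 2), (14, 23), (15, 6), (16, 23), (17, 2), (18, 2), (19, 6), (20, 6), (21, 6), (22, 2)]]

/-- Admissible images of a moved and a fixed point of each cycle. -/
def okSix : List (List (ℕ × ℕ)) :=
  [[(0, 2), (1, 23), (3, 23), (4, 23), (5, 2), (7, 6), (8, 23), (9, 6), (10, 6), (11, 2), (12, 23), (13, 2), (14, 23), (15, 6), (16, 23), (17, 2), (18, 2), (19, 6), (20, 6), (21, 6), (22, 2)], [(0, 2), (1, 23), (3, 23), (4, 23), (5, 2), (7, 6), (8, 23), (9, 6), (10, 6), (11, 2), (12, 23), (13, 2), (14, 23), (15, 6), (16, 23), (17, 2), (18, 2), (19, 6), (20, 6), (21, 6), (22, 2)], [(0, 2), (1, 23), (3, 23), (4, 23), (5, 2), (7, 6), (8, 23), (9, 6), (10, 6), (11, 2), (12, 23), (13, 2), (14, 23), (15, 6), (16, 23), (17, 2), (18, 2), (19, 6), (20, 6), (21, 6), (22, 2)]]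

/-- The representatives of the cycles with the fixed points of their octads. -/
def reps : List (ℕ × ℕ) := [(0, 2), (1, 23), (7, 6)]

end CfsgLib.MonsterType.Seven
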