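import Cfsg.Agent.Lib.MonsterType.Seven.Tools
import Cfsg.Agent.Lib.MonsterType.Seven.Data

/-!
# Permutations of the Mathieu group conjugating the element of cycle type seven cubed to a power
-/

set_option autoImplicit false
set_option maxRecDepth 100000
set_option Elab.async false

open scoped Pointwise

namespace CfsgLib.MonsterType.Seven

open Cfsg CfsgLib.Golay CfsgLib.Leech.CoTwo

/-- An iterate of the permutation on numbers. -/
def sigIt (j i : ℕ) : ℕ := Nat.iterate (fun x => sigL.getD x 0) j i

/-- The cycle and the position of a point, seven marking the fixed point of the octad. -/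
def posOf (i : ℕ) : ℕ × ℕ :=
  ((((List.range 3).flatMap fun c => (List.range 8).map fun j => (c, j))).find? fun x =>
    if x.2 = 7 then (reps.getD x.1 (0, 0)).2 == i else sigIt x.2 (reps.getD x.1 (0, 0)).1 == i).getD (0, 0)

/-- The list of images determined by the images of the representatives. -/
def candL (k : ℕ) (x : List (ℕ × ℕ)) : List ℕ :=
  (List.range 24).map fun i =>
    if (posOf i).2 = 7 then (x.getD (posOf i).1 (0, 0)).2
    else sigIt (k * (posOf i).2) (x.getD (posOf i).1 (0, 0)).1

/-- The octad of a cycle. -/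
def octM (c : ℕ) : ℕ :=
  (List.range 24).foldr (fun i acc => if (posOf i).1 = c then acc ||| 2 ^ i else acc) 0

/-- One test for the images of the representatives of a cycle. -/
def okList (k : ℕ) : List (List (ℕ × ℕ)) := if k = 1 then okOne else okSix

/-- The nested test over the candidates. -/
def searchOk (k : ℕ) : Bool :=
  ((okList k).getD 0 []).all fun p0 => ((okList k).getD 1 []).all fun p1 =>
    ((List.range 7).any fun i => sigIt (k * i) p0.1 == p1.1) ||
    ((okList k).getD 2 []).all fun p2 =>
      ((List.range 7).any fun i => sigIt (k * i) p0.1 == p2.1) ||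
      ((List.range 7).any fun i => sigIt (k * i) p1.1 == p2.1) ||
      !(golayBasis.all fun b => inCode (imgMask (candL k [p0, p1, p2]) b)) ||
      (decide (k = 1) && centData.contains (candL k [p0, p1, p2]))

theorem pos_ok : ((List.range 24).all fun i => decide ((posOf i).1 < 3) &&
    (decide ((posOf i).2 = 7 ∧ (reps.getD (posOf i).1 (0, 0)).2 = i) ||
      decide ((posOf i).2 < 7 ∧ sigIt (posOf i).2 (reps.getD (posOf i).1 (0, 0)).1 = i))) = true := by
  decide +kernel

theorem reps_ok : ((List.range 3).all fun c =>
    decide ((reps.getD c (0, 0)).1 < 24 ∧ (reps.getD c (0, 0)).2 < 24 ∧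
      sigL.getD (reps.getD c (0, 0)).1 0 ≠ (reps.getD c (0, 0)).1 ∧
      sigL.getD (reps.getD c (0, 0)).2 0 = (reps.getD c (0, 0)).2 ∧
      octM c < 2 ^ 24) && inCode (octM c) &&
      (List.range 3).all fun d => decide (d ≤ c) ||
        !((List.range 7).any fun i => sigIt i (reps.getD c (0, 0)).1 == (reps.getD d (0, 0)).1)) = true := by
  decide +kernel

theorem oct_bits : ((List.range 3).all fun c => (List.range 24).all fun i =>
    (octM c).testBit i == decide ((posOf i).1 = c)) = true := by decide +kernel

theorem ok_complete : ([1, 6].all fun k => (List.range 3).all fun c => (List.range 24).all fun a =>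
    decide (sigL.getD a 0 = a) || (List.range 24).all fun b => decide (sigL.getD b 0 ≠ b) ||
      !inCode (imgMask (candL k [(a, b), (a, b), (a, b)]) (octM c)) ||
      ((okList k).getD c []).contains (a, b)) = true := by decide +kernel

/-- The nested test below one choice of the first image. -/
def searchPart (k : ℕ) (p0 : ℕ × ℕ) : Bool :=
  ((okList k).getD 1 []).all fun p1 =>
    ((List.range 7).any fun i => sigIt (k * i) p0.1 == p1.1) ||
    ((okList k).getD 2 []).all fun p2 =>
      ((List.range 7).any fun i => sigIt (k * i) p0.1 == p2.1) ||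
      ((List.range 7).any fun i => sigIt (k * i) p1.1 == p2.1) ||
      !(golayBasis.all fun b => inCode (imgMask (candL k [p0, p1, p2]) b)) ||
      (decide (k = 1) && centData.contains (candL k [p0, p1, p2]))

theorem search_one_a : (((okList 1).getD 0 []).take 7).all (searchPart 1) = true := by decide +kernel

theorem search_one_b : ((((okList 1).getD 0 []).drop 7).take 7).all (searchPart 1) = true := by decide +kernel

theorem search_one_c : ((((okList 1).getD 0 []).drop 7).drop 7).all (searchPart 1) = true := by decide +kernel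

theorem search_six_a : (((okList 6).getD 0 []).take 7).all (searchPart 6) = true := by decide +kernel

theorem search_six_b : ((((okList 6).getD 0 []).drop 7).take 7).all (searchPart 6) = true := by decide +kernel

theorem search_six_c : ((((okList 6).getD 0 []).drop 7).drop 7).all (searchPart 6) = true := by decide +kernel

theorem searchOk_of {k : ℕ} (ha : (((okList k).getD 0 []).take 7).all (searchPart k) = true)
    (hb : ((((okList k).getD 0 []).drop 7).take 7).all (searchPart k) = true)
    (hc : ((((okList k).getD 0 []).drop 7).drop 7).all (searchPart k) = true) : searchOk k = true := by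
  show ((okList k).getD 0 []).all (searchPart k) = true
  rw [← List.take_append_drop 7 ((okList k).getD 0 []), List.all_append, ha, Bool.true_and,
    ← List.take_append_drop 7 (((okList k).getD 0 []).drop 7), List.all_append, hb, hc]
  rfl

theorem search_one : searchOk 1 = true := searchOk_of search_one_a search_one_b search_one_c

theorem search_six : searchOk 6 = true := searchOk_of search_six_a search_six_b search_six_c

theorem inCode_all : ∀ n ∈ golayList, inCode n = true :=
  forall_golayList (P := inCode) (by decide +kernel)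

theorem imgMask_lt {L : List ℕ} (h : ∀ i < 24, L.getD i 0 < 24) (n : ℕ) : imgMask L n < 2 ^ 24 := by
  refine Nat.lt_pow_two_of_testBit _ fun j hj => ?_
  by_contra hb
  rw [Bool.not_eq_false] at hb
  obtain ⟨i, hi, -, rfl⟩ := testBit_imgMask.1 hb
  have := h i hi
  omega

theorem imgMask_congr {L L' : List ℕ} {n : ℕ} (h : ∀ i < 24, n.testBit i = true → L.getD i 0 = L'.getD i 0) :
    imgMask L n = imgMask L' n := by
  refine Nat.eq_of_testBit_eq fun j => ?_
  rw [Bool.eq_iff_iff, testBit_imgMask, testBit_imgMask]
  constructor <;> rintro ⟨i, hi, hb, e⟩ <;> refine ⟨i, hi, hb, ?_⟩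
  · rw [← h i hi hb]; exact e
  · rw [h i hi hb]; exact e

theorem candL_getD (k : ℕ) (x : List (ℕ × ℕ)) {i : ℕ} (hi : i < 24) :
    (candL k x).getD i 0 = if (posOf i).2 = 7 then (x.getD (posOf i).1 (0, 0)).2
      else sigIt (k * (posOf i).2) (x.getD (posOf i).1 (0, 0)).1 := by
  rw [candL, List.getD_eq_getElem _ _ (by simpa using hi)]
  simp

/-- Permutations of the Mathieu group commuting with the permutation, or inverting it. -/
theorem perm_cases {σ π : Equiv.Perm GolayPt} (hL : permTest sigL = true) (hσ : σ = permOf ptEquiv sigL)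
    (hπ : π ∈ M24) {k : ℕ} (hk : k = 1 ∨ k = 6) (hc : π * σ = σ ^ k * π) :
    k = 1 ∧ ∃ L ∈ centData, validL 24 L = true ∧ π = permOf ptEquiv L := by
  have hv := permTest_valid hL
  set f : ℕ → ℕ := fun i => (ptEquiv (π (pt i))).val with hf
  have hpow : ∀ j (p : GolayPt), (ptEquiv ((σ ^ j) p)).val = sigIt j (ptEquiv p).val := by
    intro j
    induction j with
    | zero => intro p; rfl
    | succ j ih =>
      intro p
      rw [pow_succ', Equiv.Perm.mul_apply, hσ, permOf_apply ptEquiv hv, ← hσ, ih, sigIt, sigIt,
        Function.iterate_succ_apply']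
  have hsig1 : ∀ i < 24, sigIt 1 i < 24 := fun i hi => validL_getD_lt hv hi
  have hit : ∀ j i, i < 24 → sigIt j i < 24 := by
    intro j i hi
    have := hpow j (pt i)
    rw [ptEquiv_pt hi] at this
    rw [← this]
    exact (ptEquiv _).isLt
  have hstep : ∀ j i, i < 24 → f (sigIt j i) = sigIt (k * j) (f i) := by
    intro j i hi
    have e : pt (sigIt j i) = (σ ^ j) (pt i) := by
      rw [← pt_ptEquiv ((σ ^ j) (pt i)), hpow, ptEquiv_pt hi]
    have hcj : π * σ ^ j = σ ^ (k * j) * π := by
      have h1 : SemiconjBy π σ (σ ^ k) := hc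
      rw [pow_mul]
      exact h1.pow_right j
    show (ptEquiv (π (pt (sigIt j i)))).val = _
    rw [e, ← Equiv.Perm.mul_apply, hcj, Equiv.Perm.mul_apply, hpow]
  set F : List ℕ := (List.range 24).map f with hF
  have hFget : ∀ i < 24, F.getD i 0 = f i := fun i hi => by
    rw [hF, List.getD_eq_getElem _ _ (by simpa using hi)]; simp
  have hFlt : ∀ i < 24, F.getD i 0 < 24 := fun i hi => by rw [hFget i hi]; exact (ptEquiv _).isLt
  have hFv : validL 24 F = true := by
    refine validL_iff.2 ⟨by simp [hF], fun i hi => ?_, fun i hi => ?_⟩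
    · rw [hF, List.mem_map] at hi
      obtain ⟨j, -, rfl⟩ := hi
      exact (ptEquiv _).isLt
    · rw [hF, List.mem_map]
      refine ⟨(ptEquiv (π.symm (pt i))).val, List.mem_range.2 (ptEquiv _).isLt, ?_⟩
      show (ptEquiv (π (pt (ptEquiv (π.symm (pt i))).val))).val = i
      rw [pt_ptEquiv, Equiv.apply_symm_apply, ptEquiv_pt hi]
  have hπF : π = permOf ptEquiv F := Equiv.ext fun p => ptEquiv.injective (Fin.ext (by
    rw [permOf_apply ptEquiv hFv, hFget _ (ptEquiv p).isLt, hf]
    simp [pt_ptEquiv]))
  have hcode : ∀ n ∈ golayList, inCode (imgMask F n) = true := by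
    intro n hn
    have h1 := supports_smul hπ (mem_supports.2 ⟨n, hn, rfl⟩)
    rw [hπF, smul_toSet hFv] at h1
    obtain ⟨m, hm, e⟩ := mem_supports.1 h1
    rw [← toSet_inj (golayList_lt m hm) (imgMask_lt hFlt n) (by first | exact e | exact e.symm)]
    exact inCode_all m hm
  -- the images of the representatives
  have hr := reps_ok
  simp only [List.all_eq_true, List.mem_range, Bool.and_eq_true, decide_eq_true_eq, Bool.or_eq_true,
    Bool.not_eq_true', List.any_eq_false, beq_iff_eq] at hr
  set x : List (ℕ × ℕ) := [(f (reps.getD 0 (0, 0)).1, f (reps.getD 0 (0, 0)).2),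
    (f (reps.getD 1 (0, 0)).1, f (reps.getD 1 (0, 0)).2),
    (f (reps.getD 2 (0, 0)).1, f (reps.getD 2 (0, 0)).2)] with hx
  have hxget : ∀ c < 3, x.getD c (0, 0) = (f (reps.getD c (0, 0)).1, f (reps.getD c (0, 0)).2) := by
    intro c hc'
    interval_cases c <;> rfl
  have hp := pos_ok
  simp only [List.all_eq_true, List.mem_range, Bool.and_eq_true, decide_eq_true_eq, Bool.or_eq_true] at hp
  have hcand : F = candL k x := by
    refine List.map_congr_left fun i hi => ?_
    rw [List.mem_range] at hi
    obtain ⟨hc3, h7 | h7⟩ := hp i hi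
    · rw [if_pos h7.1, hxget _ hc3]
      show f i = f _
      rw [h7.2]
    · rw [if_neg (by omega), hxget _ hc3]
      show f i = sigIt _ (f _)
      rw [← hstep _ _ (hr _ hc3).1.1.1, h7.2]
  have hok : ∀ c < 3, x.getD c (0, 0) ∈ (okList k).getD c [] := by
    intro c hc'
    obtain ⟨⟨⟨hr1, hr2, hr3, hr4, -⟩, hr6⟩, -⟩ := hr c hc'
    have h := ok_complete
    simp only [List.all_eq_true, List.mem_range, Bool.or_eq_true, decide_eq_true_eq, Bool.not_eq_true',
      List.contains_eq_mem] at h
    have ha : sigL.getD (f (reps.getD c (0, 0)).1) 0 ≠ f (reps.getD c (0, 0)).1 := by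
      intro he
      have h1 := hstep 1 _ hr1
      rw [Nat.mul_one] at h1
      have h2 : ∀ j, sigIt j (f (reps.getD c (0, 0)).1) = f (reps.getD c (0, 0)).1 := fun j => by
        induction j with
        | zero => rfl
        | succ j ih => rw [sigIt, Function.iterate_succ_apply', ← sigIt, ih]; exact he
      rw [h2] at h1
      refine hr3 ?_
      have h3 : π (pt (sigL.getD (reps.getD c (0, 0)).1 0)) = π (pt (reps.getD c (0, 0)).1) :=
        ptEquiv.injective (Fin.ext h1)
      have h4 := congrArg (fun p => (ptEquiv p).val) (π.injective h3)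
      rwa [ptEquiv_pt hr1, ptEquiv_pt (validL_getD_lt hv hr1)] at h4
    have hb : sigL.getD (f (reps.getD c (0, 0)).2) 0 = f (reps.getD c (0, 0)).2 := by
      have h1 := hstep 1 _ hr2
      rw [Nat.mul_one, show sigIt 1 (reps.getD c (0, 0)).2 = (reps.getD c (0, 0)).2 from hr4] at h1
      -- a fixed point of a generating power is fixed
      rcases hk with rfl | rfl
      · exact h1.symm
      · have h2 : ∀ i < 24, sigIt 6 i = i → sigL.getD i 0 = i := by decide +kernel
        exact h2 _ (ptEquiv _).isLt h1.symm
    rcases (h k (by rcases hk with rfl | rfl <;> simp) c hc' _ (ptEquiv _).isLt).resolve_left ha _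
      (ptEquiv (π (pt (reps.getD c (0, 0)).2))).isLt with (h0 | h0) | h0
    · exact absurd hb h0
    · exfalso
      rw [← Bool.not_eq_true] at h0
      refine h0 ?_
      rw [imgMask_congr (L' := F) fun i hi hbit => ?_]
      · exact hcode _ (mem_golayList_of_inCode hr6)
      · have hb' := oct_bits
        simp only [List.all_eq_true, List.mem_range, beq_iff_eq] at hb'
        rw [hb' c hc' i hi, decide_eq_true_eq] at hbit
        rw [hcand, candL_getD _ _ hi, candL_getD _ _ hi, hbit, hxget c hc']
        interval_cases c <;> rfl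
    · rw [hxget c hc']
      exact h0
  have hdist : ∀ c < 3, ∀ d < 3, c < d → ¬ ∃ i < 7, sigIt (k * i) (x.getD c (0, 0)).1 = (x.getD d (0, 0)).1 := by
    rintro c hc' d hd hcd ⟨i, hi, e⟩
    rw [hxget c hc', hxget d hd] at e
    simp only at e
    rw [← hstep i _ (hr c hc').1.1.1] at e
    have h4 := congrArg (fun p => (ptEquiv p).val) (π.injective (ptEquiv.injective (Fin.ext e)))
    rw [ptEquiv_pt (hit i _ (hr c hc').1.1.1), ptEquiv_pt (hr d hd).1.1.1] at h4
    have h5 := ((hr c hc').2 d hd).resolve_left (by omega) i hi
    exact h5 h4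
  have hsearch : searchOk k = true := by rcases hk with rfl | rfl; exacts [search_one, search_six]
  simp only [searchOk, List.all_eq_true, Bool.or_eq_true, List.any_eq_true, List.mem_range, beq_iff_eq,
    Bool.and_eq_true, decide_eq_true_eq, Bool.not_eq_true', List.contains_eq_mem] at hsearch
  have h1 := (hsearch _ (hok 0 (by norm_num)) _ (hok 1 (by norm_num))).resolve_left
    (hdist 0 (by norm_num) 1 (by norm_num) (by norm_num))
  have h2 := h1 _ (hok 2 (by norm_num))
  rcases h2 with ((h2 | h2) | h2) | h2
  · exact absurd h2 (hdist 0 (by norm_num) 2 (by norm_num) (by norm_num))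
  · exact absurd h2 (hdist 1 (by norm_num) 2 (by norm_num) (by norm_num))
  · exfalso
    rw [← Bool.not_eq_true, List.all_eq_true] at h2
    refine h2 fun b hb => ?_
    rw [show [x.getD 0 (0, 0), x.getD 1 (0, 0), x.getD 2 (0, 0)] = x from rfl, ← hcand]
    exact hcode _ (mem_spanList_self hb)
  · refine ⟨h2.1, F, ?_, hFv, hπF⟩
    rw [show [x.getD 0 (0, 0), x.getD 1 (0, 0), x.getD 2 (0, 0)] = x from rfl, ← hcand] at h2
    exact h2.2

end CfsgLib.MonsterType.Seven
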