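import Cfsg.Agent.Lib.MonsterType.Seven.Classes
import Cfsg.Agent.Lib.MonsterType.Seven.Perms

/-!
# The centraliser of the element of cycle type seven cubed induces the special linear group
-/

set_option autoImplicit false
set_option maxRecDepth 100000
set_option Elab.async false

open scoped Pointwise

namespace CfsgLib.MonsterType.Seven

open Cfsg CfsgLib.Golay CfsgLib.Leech CfsgLib.Leech.CoTwo

/-- The centraliser. -/
abbrev centG : Subgroup Co0 := Subgroup.centralizer ({gS} : Set Co0)

theorem mem_centG {h : Co0} : h ∈ centG ↔ h * gS = gS * h := Subgroup.mem_centralizer_singleton_iff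

theorem fixed_of_mem {h : Co0} (hh : h ∈ centG) {v : leechLattice} (hv : gS • v = v) :
    gS • h • v = h • v := by
  rw [← mul_smul, ← mem_centG.1 hh, mul_smul, hv]

theorem exists_class {h : Co0} (hh : h ∈ centG) {i : ℕ} (hi : i < 6) :
    ∃ m < 64, h • bV i - comb m ∈ twoMul leechLattice :=
  exists_comb (by rw [fixed_of_mem hh (bV_fixed hi), sub_self]; exact zero_mem _)

theorem idL_test : permTest (List.range 24) = true := by decide +kernel

theorem cent_test {k : ℕ} (hk : k < 42) : permTest (centData.getD k []) = true := by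
  have h := cent_ok
  simp only [List.all_eq_true, List.mem_range, Bool.and_eq_true] at h
  exact (h k hk).1

theorem code_mem {c : ℕ} (hc : c < 8) : CodeSet (toSet (codeData.getD c 0)) := by
  have h := code_ok
  simp only [List.all_eq_true, List.mem_range, Bool.and_eq_true] at h
  exact mem_supports.2 ⟨_, mem_golayList_of_inCode (h c hc).1, rfl⟩

/-- The sign change of a fixed code word. -/
noncomputable def uS (c : ℕ) : Co0 :=
  if hc : c < 8 then monoAut (permOf ptEquiv (List.range 24)) (permTest_mem idL_test) _ (code_mem hc)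
  else 1

/-- The permutation in the centraliser. -/
noncomputable def uP (k : ℕ) : Co0 :=
  if hk : k < 42 then (permLift ⟨permOf ptEquiv (centData.getD k []), permTest_mem (cent_test hk)⟩ : Co0)
  else 1

theorem uP_spec {k : ℕ} (hk : k < 42) {v : leechLattice} {l : List ℤ} (hv : (v : GolayPt → ℤ) = toVec l) :
    ((uP k • v : leechLattice) : GolayPt → ℤ) = toVec (permImg (centData.getD k []) l) := by
  rw [uP, dif_pos hk]
  exact lift_spec (cent_test hk) rfl hv

theorem uS_spec {c : ℕ} (hc : c < 8) {v : leechLattice} {l : List ℤ} (hv : (v : GolayPt → ℤ) = toVec l) :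
    ((uS c • v : leechLattice) : GolayPt → ℤ) = toVec (signImg (codeData.getD c 0) l) := by
  rw [uS, dif_pos hc, mono_spec idL_test rfl rfl hv]
  congr 1

theorem cent_commutes : ((List.range 42).all fun k => (List.range 24).all fun i =>
    (centData.getD k []).getD (sigL.getD i 0) 0 == sigL.getD ((centData.getD k []).getD i 0) 0) = true := by
  decide +kernel

theorem code_invariant : ((List.range 8).all fun c => (List.range 24).all fun i =>
    (codeData.getD c 0).testBit (sigL.getD i 0) == (codeData.getD c 0).testBit i) = true := by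
  decide +kernel

theorem uP_mem {k : ℕ} (hk : k < 42) : uP k ∈ centG := by
  rw [mem_centG, uP, dif_pos hk, gS, ← Subgroup.coe_mul, ← Subgroup.coe_mul, ← map_mul, ← map_mul]
  refine congrArg (fun σ : M24 => (permLift σ : Co0)) (Subtype.ext (Equiv.ext fun p => ?_))
  simp only [sigP, Subgroup.coe_mul, Equiv.Perm.mul_apply]
  refine ptEquiv.injective (Fin.ext ?_)
  have h := cent_commutes
  simp only [List.all_eq_true, List.mem_range, beq_iff_eq] at h
  rw [permOf_apply _ (permTest_valid (cent_test hk)), permOf_apply _ (permTest_valid sigL_test),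
    permOf_apply _ (permTest_valid sigL_test), permOf_apply _ (permTest_valid (cent_test hk))]
  exact h k hk _ (ptEquiv p).isLt

theorem uS_mem {c : ℕ} (hc : c < 8) : uS c ∈ centG := by
  rw [mem_centG]
  refine ext_gens fun v l _ hv => Subtype.ext ?_
  rw [mul_smul, mul_smul, uS_spec hc (gS_spec hv), gS_spec (uS_spec hc hv)]
  congr 1
  refine List.map_congr_left fun i hi => ?_
  rw [List.mem_range] at hi
  have hj : sigL.idxOf i < 24 ∧ sigL.getD (sigL.idxOf i) 0 = i := by revert hi; revert i; decide +kernel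
  have h := code_invariant
  simp only [List.all_eq_true, List.mem_range, beq_iff_eq] at h
  have h' := h c hc _ hj.1
  rw [hj.2] at h'
  simp only [permImg, signImg]
  simp only [List.getD_eq_getElem?_getD] at h'
  simp [List.getD, hi, hj.1]
  rw [h']

/-- The classes of the products. -/
def uImg (k c i : ℕ) : ℕ := linM (codeImgs.getD c []) ((centImgs.getD k []).getD i 0)

theorem u_img {k c i : ℕ} (hk : k < 42) (hc : c < 8) (hi : i < 6) :
    (uS c * uP k) • bV i - comb (uImg k c i) ∈ twoMul leechLattice := by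
  have h1 := cent_ok
  have h2 := code_ok
  simp only [List.all_eq_true, List.mem_range, Bool.and_eq_true, decide_eq_true_eq] at h1 h2
  have e1 : uP k • bV i - comb ((centImgs.getD k []).getD i 0) ∈ twoMul leechLattice :=
    congr_of_halfOk (uP_spec hk (coe_bV hi)) (coe_comb _) ((h1 k hk).2 i hi).2
  have e2 := act_comb (h := uS c) (img := codeImgs.getD c []) (fun j hj =>
    congr_of_halfOk (uS_spec hc (coe_bV hj)) (coe_comb _) ((h2 c hc).2 j hj).2)
    ((centImgs.getD k []).getD i 0)
  have e3 := smul_mem_twoMul (uS c) e1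
  rw [smul_sub', ← mul_smul] at e3
  have := add_mem e3 e2
  rwa [sub_add_sub_cancel] at this

theorem t_mem {o : ℕ} (ho : o < 7) : tEl o ∈ centG := by
  rw [mem_centG]
  have h := tEl_conj (show o < 14 by omega)
  rw [if_pos ho, pow_one, mul_inv_eq_iff_eq_mul] at h
  exact h

/-- The classes of a general element. -/
def tuImg (o k c i : ℕ) : ℕ := linM (orbImgs.getD o []) (uImg k c i)

theorem tu_img {o k c i : ℕ} (ho : o < 7) (hk : k < 42) (hc : c < 8) (hi : i < 6) :
    (tEl o * (uS c * uP k)) • bV i - comb (tuImg o k c i) ∈ twoMul leechLattice := by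
  have e3 := smul_mem_twoMul (tEl o) (u_img hk hc hi)
  rw [smul_sub', ← mul_smul] at e3
  have := add_mem e3 (act_comb (fun j hj => tEl_img (show o < 14 by omega) hj) (uImg k c i))
  rwa [sub_add_sub_cancel] at this

/-- Every element of the centraliser is one of the products. -/
theorem decompose {h : Co0} (hh : h ∈ centG) :
    ∃ o < 7, ∃ k < 42, ∃ c < 8, h = tEl o * (uS c * uP k) := by
  have hbase : gS • baseVec = baseVec := by rw [← bV_zero]; exact bV_fixed (by norm_num)
  have hn : sqNorm ((h • baseVec : leechLattice) : GolayPt → ℤ) = 64 := by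
    rw [sqNorm_smul_co, sqNorm_baseVec]
  obtain ⟨m, hm, hcl⟩ := exists_comb (v := h • baseVec)
    (by rw [fixed_of_mem hh hbase, sub_self]; exact zero_mem _)
  obtain ⟨o, ho, rfl⟩ := class_cases hn hm hcl
  set t := tEl o with ht
  set u := t⁻¹ * h with hu
  have hu_cross : u ∈ crossStab := by
    rw [mem_crossStab_iff_congr]
    have h1 := sub_mem hcl (tEl_base ho)
    rw [sub_sub_sub_cancel_right] at h1
    have h2 := smul_mem_twoMul t⁻¹ h1
    rwa [smul_sub', inv_smul_smul, ← mul_smul] at h2
  obtain ⟨π, hπ, cs, hcs, hmono⟩ := exists_monoAut_of_mem hu_cross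
  set k : ℕ := if o < 7 then 1 else 6 with hk
  have hconj : u * gS * u⁻¹ = gS ^ k := by
    have h1 : h * gS * h⁻¹ = gS := by rw [mem_centG.1 hh, mul_inv_cancel_right]
    have h2 : t⁻¹ * gS * t = gS ^ k := by
      have h3 := tEl_conj ho
      have h4 : t⁻¹ * gS ^ k * t = gS := by rw [← h3, ← ht]; group
      have h5 : (gS ^ k) ^ k = gS := by
        rw [← pow_mul]
        conv_rhs => rw [← pow_one gS]
        rw [pow_eq_pow_mod (k * k) gS_pow, hk]
        split <;> rfl
      calc t⁻¹ * gS * t = MulAut.conj t⁻¹ ((gS ^ k) ^ k) := by rw [h5]; simp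
        _ = (t⁻¹ * gS ^ k * t) ^ k := by rw [map_pow]; simp
        _ = gS ^ k := by rw [h4]
    calc u * gS * u⁻¹ = t⁻¹ * (h * gS * h⁻¹) * t := by rw [hu]; group
      _ = gS ^ k := by rw [h1, h2]
  have hperm : π * (sigP : Equiv.Perm GolayPt) = (sigP : Equiv.Perm GolayPt) ^ k * π := by
    have h1 : (⟨u, hu_cross⟩ : crossStab) * permLift sigP = permLift sigP ^ k * ⟨u, hu_cross⟩ :=
      Subtype.ext (by
        rw [Subgroup.coe_mul, Subgroup.coe_mul, SubmonoidClass.coe_pow]
        exact mul_inv_eq_iff_eq_mul.1 hconj)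
    have h2 := congrArg (fun a : crossStab => ((permPart a : M24) : Equiv.Perm GolayPt)) h1
    simp only [map_mul, map_pow, permPart_permLift, Subgroup.coe_mul, SubmonoidClass.coe_pow] at h2
    rwa [show (permPart ⟨u, hu_cross⟩ : M24) = ⟨π, hπ⟩ from
      (congrArg permPart (Subtype.ext hmono)).trans (permPart_monoAut π hπ cs hcs)] at h2
  obtain ⟨hk1, L, hL, -, hπL⟩ := perm_cases sigL_test rfl hπ (by rw [hk]; split <;> simp) hperm
  have ho7 : o < 7 := by
    by_contra h7
    rw [hk, if_neg h7] at hk1
    omega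
  obtain ⟨kk, hkk, hkL⟩ := List.getElem_of_mem hL
  have hlen : centData.length = 42 := by decide +kernel
  obtain ⟨n, hn', hcn⟩ := mem_supports.1 hcs
  -- the code word is invariant
  have hinv : imgMask sigL n = n := by
    have hcomm : u * gS = gS * u := by
      have h5 := hconj
      rw [hk1, pow_one, mul_inv_eq_iff_eq_mul] at h5
      exact h5
    refine toSet_inj (imgMask_lt (fun i hi => validL_getD_lt (permTest_valid sigL_test) hi) n)
      (golayList_lt n hn') ?_
    rw [← smul_toSet (permTest_valid sigL_test)]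
    have key : ∀ p, (p ∈ cs ↔ (permOf ptEquiv sigL).symm p ∈ cs) := by
      intro p
      set s : Equiv.Perm GolayPt := permOf ptEquiv sigL with hs
      set q := s.symm (π.symm p) with hq
      have e : π.symm (s.symm p) = q := by
        have h6 : π * s = s * π := by
          have h7 := hperm
          rw [hk1, pow_one] at h7
          exact h7
        have h8 := congrArg (fun σ : Equiv.Perm GolayPt => σ⁻¹ p) h6
        simp only [_root_.mul_inv_rev, Equiv.Perm.mul_apply, Equiv.Perm.inv_def] at h8
        exact h8.symm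
      have h1 := congrArg (fun x : Co0 => ((x • axisVec q 8 dvd_rfl : leechLattice) : GolayPt → ℤ) p) hcomm
      simp only [mul_smul, hmono, gS, show (permLift sigP : Co0) = monoAut sigP sigP.2 ∅ codeSet_empty from rfl,
        coe_monoAut_smul, signedPerm, Finset.notMem_empty, if_false, coe_axisVec] at h1
      rw [show (sigP : Equiv.Perm GolayPt) = s from rfl, ← hq, e, Pi.single_eq_same] at h1
      by_cases a : p ∈ cs <;> by_cases b : s.symm p ∈ cs <;> simp [a, b] at h1 ⊢
    ext p
    rw [Finset.mem_smul_finset]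
    constructor
    · rintro ⟨r, hr, rfl⟩
      rw [hcn] at hr ⊢
      rw [key, Equiv.Perm.smul_def, Equiv.symm_apply_apply]
      exact hr
    · intro hp
      rw [hcn] at hp
      refine ⟨(permOf ptEquiv sigL).symm p, ?_, by rw [Equiv.Perm.smul_def, Equiv.apply_symm_apply]⟩
      rw [hcn]
      exact (key p).1 hp
  have hmem : codeData.contains n = true := by
    have h := allSpan_spec fixed_code n hn'
    rw [Nat.xor_zero] at h
    simpa [hinv] using h
  obtain ⟨cc, hcc, hcn'⟩ := List.getElem_of_mem (by simpa using hmem : n ∈ codeData)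
  have hclen : codeData.length = 8 := by decide +kernel
  refine ⟨o, ho7, kk, by omega, cc, by omega, ?_⟩
  rw [← ht, ← inv_mul_eq_iff_eq_mul, ← hu]
  refine ext_gens fun v l _ hv => Subtype.ext ?_
  conv_rhs => rw [mul_smul]
  rw [uS_spec (by omega) (uP_spec (by omega) hv), hmono,
    mono_spec (L := L) (by rw [← hkL, ← List.getD_eq_getElem _ [] hkk]; exact cent_test (by omega)) hπL
      hcn.symm hv,
    List.getD_eq_getElem _ _ hcc, hcn', List.getD_eq_getElem _ _ hkk, hkL]

theorem linM_small (img : List ℕ) {m : ℕ} (hm : m < 8) :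
    linM img m = (if m.testBit 0 then img.getD 0 0 else 0) ^^^ (if m.testBit 1 then img.getD 1 0 else 0) ^^^
      (if m.testBit 2 then img.getD 2 0 else 0) := by
  have h3 : ∀ i, 3 ≤ i → m.testBit i = false := fun i hi =>
    Nat.testBit_lt_two_pow (lt_of_lt_of_le (show m < 2 ^ 3 by simpa using hm)
      (Nat.pow_le_pow_right (by norm_num) hi))
  simp only [linM, List.range_succ_eq_map, List.range_zero, List.map_nil, List.map_cons, List.foldr_cons,
    List.foldr_nil, h3 3 le_rfl, h3 4 (by norm_num), h3 5 (by norm_num), Bool.false_eq_true, if_false]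
  cases m.testBit 0 <;> cases m.testBit 1 <;> cases m.testBit 2 <;>
    simp [h3 3 le_rfl, h3 4 (by norm_num), h3 5 (by norm_num), Nat.xor_assoc]

theorem tu_lt : ((List.range 7).all fun o => (List.range 42).all fun k => (List.range 8).all fun c =>
    (List.range 3).all fun i => decide (tuImg o k c i < 8)) = true := by decide +kernel

/-- The class of the image of a basis vector. -/
noncomputable def cls (h : centG) (i : Fin 6) : ℕ := (exists_class h.2 i.isLt).choose

theorem cls_spec (h : centG) (i : Fin 6) :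
    cls h i < 64 ∧ (h : Co0) • bV i.val - comb (cls h i) ∈ twoMul leechLattice :=
  (exists_class h.2 i.isLt).choose_spec

theorem cls_eq (h : centG) (i : Fin 6) {m : ℕ} (hm : m < 64)
    (hc : (h : Co0) • bV i.val - comb m ∈ twoMul leechLattice) : cls h i = m := by
  refine comb_inj (cls_spec h i).1 hm ?_
  have := sub_mem hc (cls_spec h i).2
  rwa [sub_sub_sub_cancel_left] at this

theorem cls_small (h : centG) (i : Fin 3) :
    ∃ o < 7, ∃ k < 42, ∃ c < 8, (h : Co0) = tEl o * (uS c * uP k) ∧
      cls h (Fin.castLE (by norm_num) i) = tuImg o k c i.val := by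
  obtain ⟨o, ho, k, hk, c, hc, e⟩ := decompose h.2
  refine ⟨o, ho, k, hk, c, hc, e, cls_eq h _ ?_ ?_⟩
  · have h1 := tu_lt
    simp only [List.all_eq_true, List.mem_range, decide_eq_true_eq] at h1
    have := h1 o ho k hk c hc i.val i.isLt
    omega
  · rw [e]
    exact tu_img ho hk hc (by simp; omega)

theorem cls_lt (h : centG) (i : Fin 3) : cls h (Fin.castLE (by norm_num) i) < 8 := by
  obtain ⟨o, ho, k, hk, c, hc, -, e⟩ := cls_small h i
  have h1 := tu_lt
  simp only [List.all_eq_true, List.mem_range, decide_eq_true_eq] at h1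
  rw [e]
  exact h1 o ho k hk c hc i.val i.isLt

/-- A bit as an element of the field. -/
def bz (x r : ℕ) : ZMod 2 := if x.testBit r then 1 else 0

theorem bz_xor (x y r : ℕ) : bz (x ^^^ y) r = bz x r + bz y r := by
  simp only [bz, Nat.testBit_xor]
  cases x.testBit r <;> cases y.testBit r <;> decide

theorem bz_ite (b : Bool) (x r : ℕ) : bz (if b then x else 0) r = (if b then 1 else 0) * bz x r := by
  cases b <;> simp [bz]

/-- The matrix on the first three classes. -/
noncomputable def mat3 (h : centG) : Matrix (Fin 3) (Fin 3) (ZMod 2) :=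
  Matrix.of fun r i => bz (cls h (Fin.castLE (by norm_num) i)) r.val

theorem mat3_one : mat3 1 = 1 := by
  ext r i
  have e : cls 1 (Fin.castLE (by norm_num) i) = 2 ^ i.val := by
    refine cls_eq _ _ (by fin_cases i <;> norm_num) ?_
    show ((1 : centG) : Co0) • bV i.val - comb (2 ^ i.val) ∈ twoMul leechLattice
    rw [OneMemClass.coe_one, one_smul, comb_two_pow (by omega), sub_self]
    exact zero_mem _
  simp only [mat3, Matrix.of_apply, e, Matrix.one_apply]
  fin_cases r <;> fin_cases i <;> decide

theorem mat3_mul (a b : centG) : mat3 (a * b) = mat3 a * mat3 b := by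
  ext r i
  set img : List ℕ := [cls a 0, cls a 1, cls a 2, cls a 3, cls a 4, cls a 5] with himg
  have hact := act_comb (h := (a : Co0)) (img := img) (fun j hj => by
    interval_cases j
    exacts [(cls_spec a 0).2, (cls_spec a 1).2, (cls_spec a 2).2, (cls_spec a 3).2, (cls_spec a 4).2,
      (cls_spec a 5).2]) (cls b (Fin.castLE (by norm_num) i))
  rw [linM_small img (cls_lt b i)] at hact
  set x := (if (cls b (Fin.castLE (by norm_num) i)).testBit 0 then img.getD 0 0 else 0) ^^^
    (if (cls b (Fin.castLE (by norm_num) i)).testBit 1 then img.getD 1 0 else 0) ^^^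
      (if (cls b (Fin.castLE (by norm_num) i)).testBit 2 then img.getD 2 0 else 0) with hx
  have e : cls (a * b) (Fin.castLE (by norm_num) i) = x := by
    refine cls_eq _ _ ?_ ?_
    · have hlt : ∀ j : Fin 3, cls a (Fin.castLE (by norm_num) j) < 2 ^ 6 := fun j => (cls_spec a _).1
      refine Nat.xor_lt_two_pow (n := 6) (Nat.xor_lt_two_pow ?_ ?_) ?_ <;> split
      exacts [hlt 0, by norm_num, hlt 1, by norm_num, hlt 2, by norm_num]
    · have h2 := smul_mem_twoMul (a : Co0) (cls_spec b (Fin.castLE (by norm_num) i)).2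
      rw [smul_sub', ← mul_smul] at h2
      have := add_mem h2 hact
      rw [sub_add_sub_cancel] at this
      exact this
  simp only [mat3, Matrix.of_apply, e, Matrix.mul_apply, Fin.sum_univ_three, hx, bz_xor, bz_ite]
  have g0 : img.getD 0 0 = cls a (Fin.castLE (by norm_num : 3 ≤ 6) 0) := rfl
  have g1 : img.getD 1 0 = cls a (Fin.castLE (by norm_num : 3 ≤ 6) 1) := rfl
  have g2 : img.getD 2 0 = cls a (Fin.castLE (by norm_num : 3 ≤ 6) 2) := rfl
  rw [g0, g1, g2]
  simp only [bz, Fin.val_zero, Fin.val_one, Fin.val_two]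
  ring

/-- The action on the first three classes. -/
noncomputable def toSL : centG →* Matrix.SpecialLinearGroup (Fin 3) (ZMod 2) :=
  MonoidHom.mk' (fun h => ⟨mat3 h, by
    have h1 : (mat3 h).det * (mat3 h⁻¹).det = 1 := by
      rw [← Matrix.det_mul, ← mat3_mul, mul_inv_cancel, mat3_one, Matrix.det_one]
    have : ∀ a b : ZMod 2, a * b = 1 → a = 1 := by decide
    exact this _ _ h1⟩)
    fun a b => Subtype.ext (mat3_mul a b)

theorem reached_0 : ∀ b < 8, ∀ c < 8,
    bz 0 0 * bz b 1 * bz c 2 - bz 0 0 * bz c 1 * bz b 2 - bz b 0 * bz 0 1 * bz c 2 +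
        bz b 0 * bz c 1 * bz 0 2 + bz c 0 * bz 0 1 * bz b 2 - bz c 0 * bz b 1 * bz 0 2 = 1 →
      reached.contains [0, b, c] = true := by
  decide +kernel

theorem reached_1 : ∀ b < 8, ∀ c < 8,
    bz 1 0 * bz b 1 * bz c 2 - bz 1 0 * bz c 1 * bz b 2 - bz b 0 * bz 1 1 * bz c 2 +
        bz b 0 * bz c 1 * bz 1 2 + bz c 0 * bz 1 1 * bz b 2 - bz c 0 * bz b 1 * bz 1 2 = 1 →
      reached.contains [1, b, c] = true := by
  decide +kernel

theorem reached_2 : ∀ b < 8, ∀ c < 8,
    bz 2 0 * bz b 1 * bz c 2 - bz 2 0 * bz c 1 * bz b 2 - bz b 0 * bz 2 1 * bz c 2 +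
        bz b 0 * bz c 1 * bz 2 2 + bz c 0 * bz 2 1 * bz b 2 - bz c 0 * bz b 1 * bz 2 2 = 1 →
      reached.contains [2, b, c] = true := by
  decide +kernel

theorem reached_3 : ∀ b < 8, ∀ c < 8,
    bz 3 0 * bz b 1 * bz c 2 - bz 3 0 * bz c 1 * bz b 2 - bz b 0 * bz 3 1 * bz c 2 +
        bz b 0 * bz c 1 * bz 3 2 + bz c 0 * bz 3 1 * bz b 2 - bz c 0 * bz b 1 * bz 3 2 = 1 →
      reached.contains [3, b, c] = true := by
  decide +kernel

theorem reached_4 : ∀ b < 8, ∀ c < 8,
    bz 4 0 * bz b 1 * bz c 2 - bz 4 0 * bz c 1 * bz b 2 - bz b 0 * bz 4 1 * bz c 2 +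
        bz b 0 * bz c 1 * bz 4 2 + bz c 0 * bz 4 1 * bz b 2 - bz c 0 * bz b 1 * bz 4 2 = 1 →
      reached.contains [4, b, c] = true := by
  decide +kernel

theorem reached_5 : ∀ b < 8, ∀ c < 8,
    bz 5 0 * bz b 1 * bz c 2 - bz 5 0 * bz c 1 * bz b 2 - bz b 0 * bz 5 1 * bz c 2 +
        bz b 0 * bz c 1 * bz 5 2 + bz c 0 * bz 5 1 * bz b 2 - bz c 0 * bz b 1 * bz 5 2 = 1 →
      reached.contains [5, b, c] = true := by
  decide +kernel

theorem reached_6 : ∀ b < 8, ∀ c < 8,
    bz 6 0 * bz b 1 * bz c 2 - bz 6 0 * bz c 1 * bz b 2 - bz b 0 * bz 6 1 * bz c 2 +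
        bz b 0 * bz c 1 * bz 6 2 + bz c 0 * bz 6 1 * bz b 2 - bz c 0 * bz b 1 * bz 6 2 = 1 →
      reached.contains [6, b, c] = true := by
  decide +kernel

theorem reached_7 : ∀ b < 8, ∀ c < 8,
    bz 7 0 * bz b 1 * bz c 2 - bz 7 0 * bz c 1 * bz b 2 - bz b 0 * bz 7 1 * bz c 2 +
        bz b 0 * bz c 1 * bz 7 2 + bz c 0 * bz 7 1 * bz b 2 - bz c 0 * bz b 1 * bz 7 2 = 1 →
      reached.contains [7, b, c] = true := by
  decide +kernel

theorem reached_all : ∀ a < 8, ∀ b < 8, ∀ c < 8,
    bz a 0 * bz b 1 * bz c 2 - bz a 0 * bz c 1 * bz b 2 - bz b 0 * bz a 1 * bz c 2 +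
        bz b 0 * bz c 1 * bz a 2 + bz c 0 * bz a 1 * bz b 2 - bz c 0 * bz b 1 * bz a 2 = 1 →
      reached.contains [a, b, c] = true := by
  intro a ha
  interval_cases a
  exacts [reached_0, reached_1, reached_2, reached_3, reached_4, reached_5, reached_6, reached_7]

theorem toSL_surjective : Function.Surjective toSL := by
  intro A
  let col : Fin 3 → ℕ := fun i =>
    (if A.1 0 i = 1 then 1 else 0) + (if A.1 1 i = 1 then 2 else 0) + (if A.1 2 i = 1 then 4 else 0)
  have hcol : ∀ r i, A.1 r i = bz (col i) r.val := by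
    intro r i
    have key : ∀ a b c : ZMod 2, ∀ r : Fin 3, ![a, b, c] r =
        bz ((if a = 1 then 1 else 0) + (if b = 1 then 2 else 0) + (if c = 1 then 4 else 0)) r.val := by
      decide
    rw [← key]
    fin_cases r <;> rfl
  have hlt : ∀ i, col i < 8 := fun i => by simp only [col]; split <;> split <;> split <;> norm_num
  have hdet := A.2
  rw [Matrix.det_fin_three] at hdet
  simp only [hcol, Fin.val_zero, Fin.val_one, Fin.val_two] at hdet
  have hm := reached_all _ (hlt 0) _ (hlt 1) _ (hlt 2) (by rw [← hdet])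
  simp only [reached, List.contains_eq_mem, decide_eq_true_eq, List.mem_flatMap, List.mem_map,
    List.mem_range] at hm
  obtain ⟨o, ho, k, hk, c, hc, e⟩ := hm
  set h : centG := ⟨tEl o * (uS c * uP k), mul_mem (t_mem ho) (mul_mem (uS_mem hc) (uP_mem hk))⟩
  refine ⟨h, Subtype.ext ?_⟩
  ext r i
  show bz (cls h _) r.val = _
  rw [hcol r i]
  congr 1
  refine cls_eq h _ (lt_trans (hlt i) (by norm_num)) ?_
  have h1 := tu_img ho hk hc (i := i.val) (by omega)
  have e' : tuImg o k c i.val = col i := by
    have := congrArg (fun l => l.getD i.val 0) e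
    fin_cases i <;> exact this
  rw [e'] at h1
  exact h1

theorem le_ker : Subgroup.zpowers gS ⊔ Subgroup.center Co0 ≤ toSL.ker.map centG.subtype := by
  have key : ∀ a : Co0, ∀ ha : a ∈ centG,
      (∀ i < 3, a • bV i - bV i ∈ twoMul leechLattice) → a ∈ toSL.ker.map centG.subtype := by
    intro a ha h
    refine ⟨⟨a, ha⟩, MonoidHom.mem_ker.2 (Subtype.ext (Eq.trans ?_ mat3_one)), rfl⟩
    ext r i
    show mat3 ⟨a, ha⟩ r i = mat3 1 r i
    simp only [mat3, Matrix.of_apply]
    congr 1
    refine cls_eq _ _ (cls_spec 1 _).1 ?_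
    have h1 := (cls_spec 1 (Fin.castLE (by norm_num : 3 ≤ 6) i)).2
    rw [OneMemClass.coe_one, one_smul] at h1
    have := add_mem (h i.val i.isLt) h1
    simp only [Fin.val_castLE] at this ⊢
    rwa [sub_add_sub_cancel] at this
  refine sup_le (Subgroup.zpowers_le.2 (key gS (mem_centG.2 rfl) fun i hi => ?_)) fun a ha => ?_
  · rw [bV_fixed (by omega), sub_self]
    exact zero_mem _
  · refine key a (mem_centG.2 (Subgroup.mem_center_iff.1 ha gS).symm) fun i _ => ?_
    rcases center_co0_cases ha with rfl | rfl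
    · rw [one_smul, sub_self]
      exact zero_mem _
    · rw [negAut_smul, ← neg_add']
      exact neg_mem (two_mem _)

theorem toSL_eq_one {h : centG} (hh : toSL h = 1) :
    (h : Co0) ∈ Subgroup.zpowers gS ⊔ Subgroup.center Co0 := by
  have hm : mat3 h = 1 := congrArg Subtype.val hh
  have hi : ∀ i : Fin 3, cls h (Fin.castLE (by norm_num) i) = 2 ^ i.val := by
    intro i
    have hb : ∀ a < 8, ∀ b < 8, (∀ r < 3, bz a r = bz b r) → a = b := by decide
    refine hb _ (cls_lt h i) _ (by fin_cases i <;> norm_num) fun r hr => ?_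
    have := congrFun (congrFun hm ⟨r, hr⟩) i
    simp only [mat3, Matrix.of_apply, Matrix.one_apply] at this
    rw [this]
    have key : ∀ r i : Fin 3, (if r = i then (1 : ZMod 2) else 0) = bz (2 ^ i.val) r.val := by decide
    exact key ⟨r, hr⟩ i
  obtain ⟨o, ho, k, hk, c, hc, e⟩ := decompose h.2
  have ho0 : o = 0 := by
    have h0 := hi 0
    have h1 : cls h (Fin.castLE (by norm_num) (0 : Fin 3)) = o + 1 := by
      refine cls_eq h _ (by omega) ?_
      rw [e]
      have h3 := tEl_base (show o < 14 by omega)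
      rw [if_pos ho] at h3
      have hu : uS c * uP k ∈ crossStab := by
        refine mul_mem ?_ ?_
        · rw [uS, dif_pos hc]; exact monoAut_mem _ _ _ _
        · rw [uP, dif_pos hk]; exact SetLike.coe_mem _
      have h4 := smul_mem_twoMul (tEl o) (mem_crossStab_iff_congr.1 hu)
      rw [smul_sub', ← mul_smul] at h4
      have h5 := add_mem h4 h3
      rw [sub_add_sub_cancel] at h5
      show (tEl o * (uS c * uP k)) • bV 0 - _ ∈ _
      rw [bV_zero]
      exact h5
    rw [h1] at h0
    simpa using h0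
  subst ho0
  have ht : tEl 0 = 1 := by
    rw [tEl, show (orbData.getD 0 (0, [])).2 = [] by decide +kernel]
    rfl
  rw [ht, one_mul] at e
  have hk' := kernel_ok
  simp only [List.all_eq_true, List.mem_range, Bool.or_eq_true, Bool.not_eq_true', Bool.and_eq_true,
    List.any_eq_true, decide_eq_true_eq, beq_iff_eq] at hk'
  obtain ⟨⟨j, -, hj⟩, hcode⟩ := (hk' k hk c hc).resolve_left fun hf => by
    rw [← Bool.not_eq_true, List.all_eq_true] at hf
    refine hf fun i hi' => ?_
    rw [List.mem_range] at hi'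
    rw [beq_iff_eq]
    have h1 := u_img hk hc (i := i) (by omega)
    rw [← e] at h1
    have h2 := cls_eq h ⟨i, by omega⟩ (m := uImg k c i) (by
      have := first_space_ok
      simp only [List.all_eq_true, List.mem_range, Bool.and_eq_true, decide_eq_true_eq] at this
      show linM _ _ < 64
      rw [linM_small _ (this.1.2 k hk i hi')]
      have g := fun j hj => lt_trans (this.2 c hc j hj) (show 8 < 2 ^ 6 by norm_num)
      refine Nat.xor_lt_two_pow (n := 6) (Nat.xor_lt_two_pow ?_ ?_) ?_ <;> split
      exacts [g 0 (by norm_num), by norm_num, g 1 (by norm_num), by norm_num, g 2 (by norm_num),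
        by norm_num]) h1
    exact (h2.symm.trans (hi ⟨i, hi'⟩))
  have hP : uP k = gS ^ j := by
    refine ext_gens fun v l _ hv => Subtype.ext ?_
    rw [uP, dif_pos hk, gS, ← SubmonoidClass.coe_pow, ← map_pow]
    congr 3
    refine congrArg permLift (Subtype.ext (Equiv.ext fun p => ptEquiv.injective (Fin.ext ?_)))
    rw [permOf_apply _ (permTest_valid (cent_test hk)), hj, List.getD_eq_getElem _ _ (by simp),
      List.getElem_map, List.getElem_range, SubmonoidClass.coe_pow]
    show _ = (ptEquiv ((((sigP : M24) : Equiv.Perm GolayPt) ^ j) p)).val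
    clear hj
    induction j with
    | zero => rfl
    | succ j ih =>
      rw [Function.iterate_succ_apply', ih, pow_succ', Equiv.Perm.mul_apply]
      exact (permOf_apply _ (permTest_valid sigL_test) _).symm
  have hS : uS c ∈ Subgroup.center Co0 := by
    rcases hcode with h0 | h0
    · have : uS c = 1 := ext_gens fun v l _ hv => Subtype.ext (by
        rw [uS_spec hc hv, h0, one_smul, hv]
        funext p
        rw [signImg, toVec_range]
        simp [toVec])
      rw [this]
      exact one_mem _
    · have : uS c = negAut := ext_gens fun v l _ hv => Subtype.ext (by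
        rw [uS_spec hc hv, h0, coe_negAut_smul, hv]
        funext p
        rw [signImg, toVec_range, Pi.neg_apply]
        have hb : ∀ i < 24, (16777215 : ℕ).testBit i = true := by decide +kernel
        rw [if_pos (hb _ (ptEquiv p).isLt)]
        simp [toVec])
      rw [this]
      exact negAut_mem_center
  rw [e]
  exact mul_mem (Subgroup.mem_sup_right hS)
    (Subgroup.mem_sup_left (hP ▸ pow_mem (Subgroup.mem_zpowers gS) j))

theorem toSL_eq_one_iff (h : centG) :
    toSL h = 1 ↔ (h : Co0) ∈ Subgroup.zpowers gS ⊔ Subgroup.center Co0 := by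
  refine ⟨toSL_eq_one, fun hh => ?_⟩
  obtain ⟨a, ha, e⟩ := le_ker hh
  rw [← Subtype.ext e]
  exact ha

theorem faithful (h : Co0) (hh : h ∈ centG)
    (hb : ∀ i, h • fixBasis.b i - fixBasis.b i ∈ twoMul leechLattice) :
    h ∈ Subgroup.zpowers gS ⊔ Subgroup.center Co0 := by
  refine toSL_eq_one (h := ⟨h, hh⟩) (Subtype.ext (Eq.trans ?_ mat3_one))
  ext r i
  show mat3 ⟨h, hh⟩ r i = mat3 1 r i
  simp only [mat3, Matrix.of_apply]
  congr 1
  refine cls_eq _ _ (cls_spec 1 _).1 ?_
  have h1 := (cls_spec 1 (Fin.castLE (by norm_num : 3 ≤ 6) i)).2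
  rw [OneMemClass.coe_one, one_smul] at h1
  have := add_mem (hb (Fin.castLE (by norm_num) i)) h1
  change h • bV i.val - bV i.val + (bV i.val - _) ∈ _ at this
  rwa [sub_add_sub_cancel] at this

end CfsgLib.MonsterType.Seven
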