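import Cfsg.Agent.Lib.MonsterType.Seven.Invert
import Cfsg.Agent.Lib.MonsterType.Local.SettingFitting

/-!
# The automiser of a Sylow 7-subgroup of the joint centraliser
-/

set_option autoImplicit false
set_option maxRecDepth 100000

open scoped Pointwise

namespace CfsgLib.MonsterType.Seven

open Cfsg CfsgLib.Golay CfsgLib.Leech CfsgLib.Leech.CoTwo

variable {G : Type*} [Group G] [Finite G] {z : G} {Q : Subgroup (Subgroup.centralizer ({z} : Set G))} [Q.Normal]
  {e : (Subgroup.centralizer ({z} : Set G)) ⧸ Q ≃* Spor.Co1}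
  {ψ : leechLattice → Q ⧸ Subgroup.center Q} {x : Q} {B : Subgroup G}

theorem relIndex_centralizer (D : LocalData 7 e ψ x B gS) :
    (Subgroup.centralizer (B : Set G)).relIndex (Subgroup.normalizer (B : Set G)) = 6 := by
  classical
  haveI : Fact (Nat.Prime 7) := ⟨by norm_num⟩
  haveI : IsCyclic B := isCyclic_of_prime_card D.card
  have hsurj : Function.Surjective B.normalizerMonoidHom := by
    intro φ
    obtain ⟨y₀, hy₀⟩ := IsCyclic.exists_generator (α := B)
    obtain ⟨k, hk⟩ : ∃ k : ℕ, y₀ ^ k = φ y₀ := by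
      have h1 := hy₀ (φ y₀)
      rw [← mem_powers_iff_mem_zpowers, Submonoid.mem_powers_iff] at h1
      exact h1
    have hy1 : y₀ ≠ 1 := by
      rintro rfl
      have : Nat.card B ≤ 1 := by
        rw [Finite.card_le_one_iff_subsingleton]
        refine ⟨fun a b => ?_⟩
        obtain ⟨i, rfl⟩ := Subgroup.mem_zpowers_iff.1 (hy₀ a)
        obtain ⟨j, rfl⟩ := Subgroup.mem_zpowers_iff.1 (hy₀ b)
        rw [one_zpow, one_zpow]
      rw [D.card] at this
      omega
    have hk7 : ¬ 7 ∣ k := by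
      rintro ⟨m, rfl⟩
      have h7 : y₀ ^ 7 = 1 := by rw [← D.card]; exact pow_card_eq_one'
      rw [pow_mul, h7, one_pow, eq_comm, map_eq_one_iff _ φ.injective] at hk
      exact hy1 hk
    obtain ⟨h, hh⟩ := hpow_seven hk7
    obtain ⟨c, -, hc⟩ := D.lift_norm hh
    have hmem : ∀ b ∈ B, (c : G) * b * (c : G)⁻¹ ∈ B := fun b hb => (hc b hb) ▸ pow_mem hb k
    have hcN : (c : G) ∈ Subgroup.normalizer (B : Set G) := by
      refine Subgroup.mem_normalizer_iff_map_conj_eq.2 (Subgroup.eq_of_le_of_card_ge ?_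
        (le_of_eq (Subgroup.card_map_of_injective (MulEquiv.injective _)).symm))
      rintro _ ⟨b, hb, rfl⟩
      exact hmem b hb
    refine ⟨⟨c, hcN⟩, MulEquiv.ext fun b => Subtype.ext ?_⟩
    obtain ⟨i, rfl⟩ := Subgroup.mem_zpowers_iff.1 (hy₀ b)
    rw [map_zpow, map_zpow, ← hk]
    simp only [SubgroupClass.coe_zpow]
    congr 1
    show (c : G) * (y₀ : G) * (c : G)⁻¹ = _
    rw [hc _ y₀.2, SubmonoidClass.coe_pow]
  rw [Subgroup.relIndex, ← Subgroup.normalizerMonoidHom_ker, Subgroup.index_ker,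
    MonoidHom.range_eq_top.2 hsurj, Subgroup.card_top, IsCyclic.card_mulAut, D.card]
  decide

/-- No element of the joint centraliser inverts `B`. -/
theorem not_inverting (D : LocalData 7 e ψ x B gS) {n : G} (hnz : n ∈ Subgroup.centralizer ({z} : Set G))
    (hns : n ∈ Subgroup.centralizer ({((x : Subgroup.centralizer ({z} : Set G)) : G)} : Set G))
    (hinv : ∀ b ∈ B, n * b * n⁻¹ = b⁻¹) : False := by
  have hS := D.hS
  set nC : Subgroup.centralizer ({z} : Set G) := ⟨n, hnz⟩ with hnC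
  obtain ⟨h, hh⟩ := proj_surjective (e := e) (QuotientGroup.mk nC)
  have hcross : h ∈ crossStab := by
    rw [mem_crossStab_iff_congr, ← proj_mem_xSub_iff hS D.iso D.base (by rw [sqNorm_baseVec])
      (by rw [sqNorm_baseVec]; norm_num), hh]
    exact ⟨nC, Subgroup.mem_subgroupOf.2 ⟨hnz, hns⟩, rfl⟩
  have hconj : h * gS * h⁻¹ = gS ^ 6 := by
    obtain ⟨y, hy, hyg⟩ := D.exists_gen
    refine eq_of_proj_eq (e := e) D.hpf ?_ (by rw [← pow_mul, mul_comm, pow_mul, gS_pow, one_pow]) ?_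
    · rw [← MulAut.conj_apply, ← map_pow, gS_pow, map_one]
    · rw [map_mul, map_mul, map_inv, hh, map_pow, ← hyg, ← QuotientGroup.mk_inv, ← QuotientGroup.mk_mul,
        ← QuotientGroup.mk_mul, ← QuotientGroup.mk_pow]
      congr 1
      refine Subtype.ext ?_
      simp only [Subgroup.coe_mul, InvMemClass.coe_inv, SubmonoidClass.coe_pow, hnC]
      rw [hinv _ hy, inv_eq_of_mul_eq_one_left]
      rw [← pow_succ]
      exact orderOf_dvd_seven D hy
  obtain ⟨π, hπ, cs, hcs, hmono⟩ := exists_monoAut_of_mem hcross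
  have hperm : π * (sigP : Equiv.Perm GolayPt) = (sigP : Equiv.Perm GolayPt) ^ 6 * π := by
    have h1 : (⟨h, hcross⟩ : crossStab) * permLift sigP = permLift sigP ^ 6 * ⟨h, hcross⟩ :=
      Subtype.ext (by
        rw [Subgroup.coe_mul, Subgroup.coe_mul, SubmonoidClass.coe_pow]
        exact mul_inv_eq_iff_eq_mul.1 hconj)
    have h2 := congrArg (fun a : crossStab => ((permPart a : M24) : Equiv.Perm GolayPt)) h1
    simp only [map_mul, map_pow, permPart_permLift, Subgroup.coe_mul, SubmonoidClass.coe_pow] at h2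
    rwa [show (permPart ⟨h, hcross⟩ : M24) = ⟨π, hπ⟩ from
      (congrArg permPart (Subtype.ext hmono)).trans (permPart_monoAut π hπ cs hcs)] at h2
  have := (perm_cases sigL_test rfl hπ (Or.inr rfl) hperm).1
  omega

/-- Both involutions lie in the layer of the centraliser of `B`. -/
theorem mem_layer (hM : IsOfMonsterType z Q) (D : LocalData 7 e ψ x B gS) :
    ∃ (hz : z ∈ Subgroup.centralizer (B : Set G))
      (hs : ((x : Subgroup.centralizer ({z} : Set G)) : G) ∈ Subgroup.centralizer (B : Set G)),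
      (⟨z, hz⟩ : Subgroup.centralizer (B : Set G)) ∈ layer ↥(Subgroup.centralizer (B : Set G)) ∧
        (⟨_, hs⟩ : Subgroup.centralizer (B : Set G)) ∈ layer ↥(Subgroup.centralizer (B : Set G)) := by
  set H := Subgroup.centralizer (B : Set G) with hH
  have hNc : B.subgroupOf H ≤ Subgroup.center H := fun b hb => Subgroup.mem_center_iff.2 fun a =>
    Subtype.ext (Subgroup.mem_centralizer_iff.1 a.2 _ (Subgroup.mem_subgroupOf.1 hb)).symm
  haveI : (B.subgroupOf H).Normal := ⟨fun b hb a => by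
    rw [Subgroup.mem_center_iff.1 (hNc hb) a, mul_inv_cancel_right]; exact hb⟩
  obtain ⟨hz, Qb, hQn, hset, -, hcount⟩ := held_data hM D
  have hF := fittingSubgroup_eq_bot hset (by rw [hcount]; norm_num)
  have hzE : (⟨z, hz⟩ : H) ∈ layer H := mem_layer_of_quot hNc (n := 7) (by decide)
    (fun b hb => Subtype.ext (by simpa using orderOf_dvd_seven D (Subgroup.mem_subgroupOf.1 hb)))
    (Subtype.ext (z_sq D.hS)) hset hF
  obtain ⟨hsC, hs1⟩ := D.isConj_s
  obtain ⟨c, hc, hcs⟩ := exists_move_B hM D (coe_mem_qG x) D.self_mem_centQ hsC hs1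
  refine ⟨hz, D.self_mem_centQ, hzE, ?_⟩
  have := (CfsgLib.Cores.layer_normal (G := H)).conj_mem _ hzE (⟨c, hc⟩ : H)⁻¹
  convert this using 1
  refine Subtype.ext ?_
  simp only [Subgroup.coe_mul, InvMemClass.coe_inv, inv_inv]
  calc ((x : Subgroup.centralizer ({z} : Set G)) : G)
      = c⁻¹ * (c * ((x : Subgroup.centralizer ({z} : Set G)) : G) * c⁻¹) * c := by group
    _ = c⁻¹ * z * c := by rw [hcs]

/-- Some involution inverting `B` induces a non-inner automorphism of the layer of the centraliser. -/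
theorem exists_outer (hM : IsOfMonsterType z Q) (D : LocalData 7 e ψ x B gS) :
    ∃ t : G, orderOf t = 2 ∧ (∀ b ∈ B, t * b * t⁻¹ = b⁻¹) ∧
      (∀ w ∈ (layer ↥(Subgroup.centralizer (B : Set G))).map (Subgroup.centralizer (B : Set G)).subtype,
        t * w * t⁻¹ ∈ (layer ↥(Subgroup.centralizer (B : Set G))).map (Subgroup.centralizer (B : Set G)).subtype) ∧
      ¬ ∃ l ∈ (layer ↥(Subgroup.centralizer (B : Set G))).map (Subgroup.centralizer (B : Set G)).subtype,
        ∀ w ∈ (layer ↥(Subgroup.centralizer (B : Set G))).map (Subgroup.centralizer (B : Set G)).subtype,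
          t * w * t⁻¹ = l * w * l⁻¹ := by
  obtain ⟨t, htz, ht2, hinv⟩ := exists_inverting D
  set H := Subgroup.centralizer (B : Set G) with hH
  have htn : ∀ b ∈ B, t⁻¹ * b * t = b⁻¹ := fun b hb => by
    calc t⁻¹ * b * t = t⁻¹ * (t * b⁻¹ * t⁻¹) * t := by rw [hinv _ (inv_mem hb), inv_inv]
      _ = b⁻¹ := by group
  have hH1 : ∀ w ∈ H, t * w * t⁻¹ ∈ H := fun w hw => Subgroup.mem_centralizer_iff.2 fun b hb => by
    have h1 := Subgroup.mem_centralizer_iff.1 hw _ (inv_mem (hb : b ∈ B))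
    calc b * (t * w * t⁻¹) = t * ((t⁻¹ * b * t) * w) * t⁻¹ := by group
      _ = t * (w * (t⁻¹ * b * t)) * t⁻¹ := by rw [htn b hb, h1]
      _ = t * w * t⁻¹ * b := by group
  have hH2 : ∀ w ∈ H, t⁻¹ * w * t ∈ H := fun w hw => Subgroup.mem_centralizer_iff.2 fun b hb => by
    have h1 := Subgroup.mem_centralizer_iff.1 hw _ (inv_mem (hb : b ∈ B))
    calc b * (t⁻¹ * w * t) = t⁻¹ * ((t * b * t⁻¹) * w) * t := by group
      _ = t⁻¹ * (w * (t * b * t⁻¹)) * t := by rw [hinv b hb, h1]
      _ = t⁻¹ * w * t * b := by group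
  let φ : H ≃* H :=
    { toFun := fun w => ⟨t * w * t⁻¹, hH1 _ w.2⟩
      invFun := fun w => ⟨t⁻¹ * w * t, hH2 _ w.2⟩
      left_inv := fun w => Subtype.ext (by simp [mul_assoc])
      right_inv := fun w => Subtype.ext (by simp [mul_assoc])
      map_mul' := fun a b => Subtype.ext (by simp [mul_assoc]) }
  haveI := CfsgLib.Cores.layer_characteristic (G := H)
  refine ⟨t, ht2, hinv, ?_, ?_⟩
  · rintro _ ⟨w, hw, rfl⟩
    refine ⟨φ w, ?_, rfl⟩
    rw [SetLike.mem_coe, ← (Subgroup.characteristic_iff_map_eq.1 inferInstance φ : (layer H).map φ.toMonoidHom = layer H)]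
    exact ⟨w, hw, rfl⟩
  · rintro ⟨_, ⟨l, hl, rfl⟩, hall⟩
    obtain ⟨hz, hs, hzE, hsE⟩ := mem_layer hM D
    set s : G := ((x : Subgroup.centralizer ({z} : Set G)) : G)
    have key : ∀ a : G, t * a * t⁻¹ = (l : G) * a * (l : G)⁻¹ →
        (l : G)⁻¹ * t ∈ Subgroup.centralizer ({a} : Set G) := fun a ha => by
      rw [Subgroup.mem_centralizer_singleton_iff]
      calc (l : G)⁻¹ * t * a = (l : G)⁻¹ * (t * a * t⁻¹) * t := by group
        _ = a * ((l : G)⁻¹ * t) := by rw [ha]; group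
    refine not_inverting D (key z (hall z ⟨_, hzE, rfl⟩)) (key s (hall s ⟨_, hsE, rfl⟩)) fun b hb => ?_
    have h1 := Subgroup.mem_centralizer_iff.1 (inv_mem l.2) _ (inv_mem hb)
    calc (l : G)⁻¹ * t * b * ((l : G)⁻¹ * t)⁻¹ = (l : G)⁻¹ * (t * b * t⁻¹) * (l : G) := by group
      _ = b⁻¹ := by rw [hinv b hb, ← h1, mul_assoc, inv_mul_cancel, mul_one]

end CfsgLib.MonsterType.Seven
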