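import Cfsg.Agent.Lib.Leech.CoTwo.LatMat

/-!
# Strict evaluation of integer lists in finite checks

The combinators pass fully evaluated values to their continuations, so that the finite checks share the
intermediate results.
-/

set_option autoImplicit false
set_option maxRecDepth 100000

namespace CfsgLib.MonsterType.Seven

open CfsgLib.Golay CfsgLib.Leech CfsgLib.Leech.CoTwo

/-- Pass the value of a natural number to the continuation. -/
def withNat (n : ℕ) (k : ℕ → Bool) : Bool :=
  match n with
  | 0 => k 0
  | m + 1 => k (m + 1)

theorem withNat_eq (n : ℕ) (k : ℕ → Bool) : withNat n k = k n := by cases n <;> rfl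

/-- Pass the value of an integer to the continuation. -/
def withInt (x : ℤ) (k : ℤ → Bool) : Bool :=
  match x with
  | Int.ofNat n => withNat n fun n => k (Int.ofNat n)
  | Int.negSucc n => withNat n fun n => k (Int.negSucc n)

theorem withInt_eq (x : ℤ) (k : ℤ → Bool) : withInt x k = k x := by
  cases x <;> simp only [withInt, withNat_eq]

/-- Pass the values of an integer list to the continuation. -/
def withList (l : List ℤ) (k : List ℤ → Bool) : Bool :=
  match l with
  | [] => k []
  | a :: t => withInt a fun a => withList t fun t => k (a :: t)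

theorem withList_eq : ∀ (l : List ℤ) (k : List ℤ → Bool), withList l k = k l
  | [], _ => rfl
  | a :: t, k => by rw [withList, withInt_eq, withList_eq t]

/-- Pass the values of a list of integer lists to the continuation. -/
def withLists (l : List (List ℤ)) (k : List (List ℤ) → Bool) : Bool :=
  match l with
  | [] => k []
  | a :: t => withList a fun a => withLists t fun t => k (a :: t)

theorem withLists_eq : ∀ (l : List (List ℤ)) (k : List (List ℤ) → Bool), withLists l k = k l
  | [], _ => rfl
  | a :: t, k => by rw [withLists, withList_eq, withLists_eq t]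

/-- Pass the result of applying a list of maps, last first, to the continuation. -/
def withRun : List (List ℤ → List ℤ) → List ℤ → (List ℤ → Bool) → Bool
  | [], l, k => withList l k
  | f :: fs, l, k => withRun fs l fun x => withList (f x) k

theorem withRun_eq : ∀ (fs : List (List ℤ → List ℤ)) (l : List ℤ) (k : List ℤ → Bool),
    withRun fs l k = k (fs.foldr (fun f x => f x) l)
  | [], l, k => by rw [withRun, withList_eq]; rfl
  | f :: fs, l, k => by rw [withRun, withRun_eq fs, withList_eq]; rfl

/-- Pointwise equality of integer lists. -/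
def sameList : List ℤ → List ℤ → Bool
  | [], [] => true
  | a :: s, b :: t => a == b && sameList s t
  | _, _ => false

theorem eq_of_sameList : ∀ {s t : List ℤ}, sameList s t = true → s = t
  | [], [], _ => rfl
  | [], _ :: _, h => by simp [sameList] at h
  | _ :: _, [], h => by simp [sameList] at h
  | a :: s, b :: t, h => by
    simp only [sameList, Bool.and_eq_true, beq_iff_eq] at h
    rw [h.1, eq_of_sameList h.2]

/-- The coefficient of a sparse row. -/
def coefR (r : List (ℕ × ℤ)) (j : ℕ) : ℤ := rowDot r fun k => if k = j then 1 else 0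

/-- All indices of a sparse row are in range. -/
def idxOk (r : List (ℕ × ℤ)) : Bool := r.all fun e => decide (e.1 < 24)

theorem rowDot_sum : ∀ {r : List (ℕ × ℤ)}, idxOk r = true → ∀ f : ℕ → ℤ,
    rowDot r f = ∑ j ∈ Finset.range 24, coefR r j * f j
  | [], _, f => by simp [coefR, rowDot]
  | e :: r, h, f => by
    simp only [idxOk, List.all_cons, Bool.and_eq_true, decide_eq_true_eq] at h
    rw [rowDot, rowDot_sum (r := r) h.2 f,
      show ∑ j ∈ Finset.range 24, coefR (e :: r) j * f j =
        ∑ j ∈ Finset.range 24, ((if e.1 = j then e.2 * f j else 0) + coefR r j * f j) from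
        Finset.sum_congr rfl fun j _ => by simp only [coefR, rowDot]; split <;> ring,
      Finset.sum_add_distrib, Finset.sum_ite_eq, if_pos (Finset.mem_range.2 h.1)]

/-- The strict form of the check of a matrix and its transpose. -/
def matCheckS (M N : List (List (ℕ × ℤ))) : Bool :=
  ((List.range 24).all fun i => idxOk (M.getD i []) && idxOk (N.getD i [])) &&
  ((List.range 24).all fun i => (List.range 24).all fun j => coefR (M.getD i []) j == coefR (N.getD j []) i) &&
  withLists genList fun gs => gs.all fun l => withList (imgList M l) fun y =>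
    ((List.range 24).all fun i => rowDot (M.getD i []) (fun j => l.getD (j % 24) 0) % 2 == 0) &&
      leechTest y &&
      ((List.range 24).all fun i => rowDot (N.getD i []) (fun j => y.getD (j % 24) 0) == 2 * l.getD i 0)

theorem imgList_getD (M : List (List (ℕ × ℤ))) (l : List ℤ) {i : ℕ} (hi : i < 24) :
    (imgList M l).getD i 0 = rowDot (M.getD i []) (fun j => l.getD (j % 24) 0) / 2 := by
  rw [List.getD_eq_getElem _ _ (by simpa [imgList] using hi)]
  simp [imgList]

theorem matCheck_of_strict {M N : List (List (ℕ × ℤ))} (h : matCheckS M N = true) : matCheck M N = true := by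
  simp only [matCheckS, withLists_eq, withList_eq, Bool.and_eq_true, List.all_eq_true, List.mem_range,
    beq_iff_eq] at h
  obtain ⟨⟨hidx, hco⟩, hl⟩ := h
  have hround : ∀ l ∈ genList, ∀ i < 24, (imgList N (imgList M l)).getD i 0 = l.getD i 0 := fun l hl' i hi => by
    rw [imgList_getD N _ hi, (hl l hl').2 i hi, Int.mul_ediv_cancel_left _ (by norm_num : (2 : ℤ) ≠ 0)]
  simp only [matCheck, Bool.and_eq_true, List.all_eq_true, List.mem_range, beq_iff_eq]
  refine ⟨fun l hl' => ⟨(hl l hl').1, hround l hl'⟩, fun a ha b hb => ?_⟩
  have hsum : ∀ f : ℕ → ℤ, ((List.range 24).map f).sum = ∑ i ∈ Finset.range 24, f i := fun f => rfl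
  refine mul_left_cancel₀ (by norm_num : (2 : ℤ) ≠ 0) ?_
  rw [dotL, dotL, hsum, hsum, Finset.mul_sum, Finset.mul_sum]
  set y : ℕ → ℤ := fun i => (imgList M b).getD i 0 with hy
  calc ∑ i ∈ Finset.range 24, 2 * ((imgList M a).getD i 0 * y i)
      = ∑ i ∈ Finset.range 24, ∑ j ∈ Finset.range 24, coefR (M.getD i []) j * a.getD j 0 * y i := by
        refine Finset.sum_congr rfl fun i hi => ?_
        rw [Finset.mem_range] at hi
        rw [← Finset.sum_mul, ← mul_assoc, imgList_getD M a hi,
          Int.mul_ediv_cancel' (Int.dvd_of_emod_eq_zero ((hl a ha).1.1 i hi)), rowDot_sum (hidx i hi).1]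
        congr 1
    _ = ∑ j ∈ Finset.range 24, ∑ i ∈ Finset.range 24, coefR (M.getD i []) j * a.getD j 0 * y i :=
        Finset.sum_comm
    _ = ∑ j ∈ Finset.range 24, 2 * (a.getD j 0 * b.getD j 0) := by
        refine Finset.sum_congr rfl fun j hj => ?_
        rw [Finset.mem_range] at hj
        rw [mul_left_comm, ← (hl b hb).2 j hj, rowDot_sum (hidx j hj).2, Finset.mul_sum]
        refine Finset.sum_congr rfl fun i hi => ?_
        rw [Finset.mem_range] at hi
        rw [hco i hi j hj, Nat.mod_eq_of_lt hi, hy]
        ring

end CfsgLib.MonsterType.Seven
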