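import Cfsg.Agent.Lib.MonsterType.Seven.Tools
import Cfsg.Agent.Lib.MonsterType.Seven.Force
import Cfsg.Agent.Lib.MonsterType.Seven.Data

/-!
# Finite checks for the element of cycle type seven cubed
-/

set_option autoImplicit false
set_option maxRecDepth 100000
set_option Elab.async false

namespace CfsgLib.MonsterType.Seven

open Cfsg CfsgLib.Golay CfsgLib.Leech CfsgLib.Leech.CoTwo

/-- The transpose of a sparse matrix. -/
def trM (M : List (List (ℕ × ℤ))) : List (List (ℕ × ℤ)) :=
  (List.range 24).map fun i => (List.range 24).filterMap fun j =>
    ((M.getD j []).find? fun e => e.1 == i).map fun e => (j, e.2)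

/-- The image of a list under a word. -/
def wImg (w : List ℕ) (l : List ℤ) : List ℤ := w.foldr (fun j x => imgList (matData.getD j []) x) l

/-- The selected sum of basis lists. -/
def combL (m : ℕ) : List ℤ :=
  (List.range 6).foldr
    (fun i acc => if m.testBit i then
      (List.range 24).map fun j => (basisL.getD i []).getD j 0 + acc.getD j 0 else acc)
    ((List.range 24).map fun _ => 0)

/-- The orbit sum of a list. -/
def orbL (l : List ℤ) : List ℤ :=
  let a := permImg sigL l
  let b := permImg sigL a
  let c := permImg sigL b
  let d := permImg sigL c
  let e := permImg sigL d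
  let f := permImg sigL e
  (List.range 24).map fun j =>
    l.getD j 0 + a.getD j 0 + b.getD j 0 + c.getD j 0 + d.getD j 0 + e.getD j 0 + f.getD j 0

/-- The base vector. -/
def base8 : List ℤ := (List.range 24).map fun i => if i = 23 then 8 else 0

/-- The maps of the factors of a word. -/
def wFuns (w : List ℕ) : List (List ℤ → List ℤ) := w.map fun j => imgList (matData.getD j [])

theorem foldr_wFuns (w : List ℕ) (l : List ℤ) : (wFuns w).foldr (fun f x => f x) l = wImg w l := by
  rw [wFuns, List.foldr_map]; rfl

/-- The repeated permutation. -/
def pFuns (k : ℕ) : List (List ℤ → List ℤ) := List.replicate k (permImg sigL)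

theorem foldr_pFuns : ∀ (k : ℕ) (l : List ℤ),
    (pFuns k).foldr (fun f x => f x) l = Nat.iterate (permImg sigL) k l
  | 0, _ => rfl
  | k + 1, l => by
    rw [Function.iterate_succ_apply', ← foldr_pFuns k l]
    rfl

/-- A word conjugates the permutation to a power. -/
def commOk (w : List ℕ) (k : ℕ) : Bool :=
  genList.all fun l => withRun (wFuns w) (permImg sigL l) fun a => withRun (wFuns w) l fun b =>
    withRun (pFuns k) b fun c => sameList a c

theorem comm_of_commOk {w : List ℕ} {k : ℕ} (h : commOk w k = true) :
    ∀ l ∈ genList, wImg w (permImg sigL l) = Nat.iterate (permImg sigL) k (wImg w l) := by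
  simp only [commOk, withRun_eq, foldr_wFuns, foldr_pFuns, List.all_eq_true] at h
  exact fun l hl => eq_of_sameList (h l hl)

/-- The strict form of the comparison modulo two. -/
def halfOkS (a b : List ℤ) : Bool :=
  withList a fun a => withList b fun b =>
    withList ((List.range 24).map fun i => (a.getD i 0 - b.getD i 0) / 2) fun d =>
      ((List.range 24).all fun i => (a.getD i 0 - b.getD i 0) % 2 == 0) && leechTest d

theorem halfOkS_eq (a b : List ℤ) : halfOkS a b = halfOk a b := by
  simp only [halfOkS, withList_eq, halfOk]

theorem sigL_test : permTest sigL = true := by decide +kernel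

theorem sigL_seven : ((List.range 24).all fun i =>
    sigL.getD (sigL.getD (sigL.getD (sigL.getD (sigL.getD (sigL.getD (sigL.getD i 0) 0) 0) 0) 0) 0) 0 == i) =
      true := by decide +kernel

theorem mat_ok_0 : matCheckS (matData.getD 0 []) (trM (matData.getD 0 [])) = true := by decide +kernel

theorem mat_ok'_0 : matCheckS (trM (matData.getD 0 [])) (matData.getD 0 []) = true := by decide +kernel

theorem mat_ok_1 : matCheckS (matData.getD 1 []) (trM (matData.getD 1 [])) = true := by decide +kernel

theorem mat_ok'_1 : matCheckS (trM (matData.getD 1 [])) (matData.getD 1 []) = true := by decide +kernel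

theorem mat_ok_2 : matCheckS (matData.getD 2 []) (trM (matData.getD 2 [])) = true := by decide +kernel

theorem mat_ok'_2 : matCheckS (trM (matData.getD 2 [])) (matData.getD 2 []) = true := by decide +kernel

theorem mat_ok_3 : matCheckS (matData.getD 3 []) (trM (matData.getD 3 [])) = true := by decide +kernel

theorem mat_ok'_3 : matCheckS (trM (matData.getD 3 [])) (matData.getD 3 []) = true := by decide +kernel

theorem mat_ok_4 : matCheckS (matData.getD 4 []) (trM (matData.getD 4 [])) = true := by decide +kernel

theorem mat_ok'_4 : matCheckS (trM (matData.getD 4 [])) (matData.getD 4 []) = true := by decide +kernel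

theorem mat_ok_5 : matCheckS (matData.getD 5 []) (trM (matData.getD 5 [])) = true := by decide +kernel

theorem mat_ok'_5 : matCheckS (trM (matData.getD 5 [])) (matData.getD 5 []) = true := by decide +kernel

theorem mat_ok_6 : matCheckS (matData.getD 6 []) (trM (matData.getD 6 [])) = true := by decide +kernel

theorem mat_ok'_6 : matCheckS (trM (matData.getD 6 [])) (matData.getD 6 []) = true := by decide +kernel

theorem mat_ok_7 : matCheckS (matData.getD 7 []) (trM (matData.getD 7 [])) = true := by decide +kernel

theorem mat_ok'_7 : matCheckS (trM (matData.getD 7 [])) (matData.getD 7 []) = true := by decide +kernel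

theorem mats_ok : ((List.range 8).all fun j =>
    matCheck (matData.getD j []) (trM (matData.getD j [])) &&
      matCheck (trM (matData.getD j [])) (matData.getD j [])) = true := by
  simp only [List.all_eq_true, List.mem_range, Bool.and_eq_true]
  intro j hj
  interval_cases j
  exacts [⟨matCheck_of_strict mat_ok_0, matCheck_of_strict mat_ok'_0⟩, ⟨matCheck_of_strict mat_ok_1, matCheck_of_strict mat_ok'_1⟩, ⟨matCheck_of_strict mat_ok_2, matCheck_of_strict mat_ok'_2⟩, ⟨matCheck_of_strict mat_ok_3, matCheck_of_strict mat_ok'_3⟩, ⟨matCheck_of_strict mat_ok_4, matCheck_of_strict mat_ok'_4⟩, ⟨matCheck_of_strict mat_ok_5, matCheck_of_strict mat_ok'_5⟩, ⟨matCheck_of_strict mat_ok_6, matCheck_of_strict mat_ok'_6⟩, ⟨matCheck_of_strict mat_ok_7, matCheck_of_strict mat_ok'_7⟩]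

theorem words_lt : ((powWord :: orbData.map Prod.snd).all fun w => w.all fun j => decide (j < 8)) = true := by
  decide +kernel

/-- The parts of the words. -/
def partData : List (List ℕ × ℕ) := [([0, 1, 2], 1), ([3], 1), ([4], 1), ([0, 5, 6], 6)]

/-- The words as lists of parts. -/
def orbParts : List (List ℕ) :=
  [[], [0], [0, 1, 0], [1, 0], [2, 0, 0], [2, 1, 0], [0, 0], [3], [2, 3], [1, 2, 3], [0, 3], [2, 0, 0, 3],
    [0, 0, 3], [0, 1, 2, 3]]

theorem orb_parts_ok : ((List.range 14).all fun o =>
    decide ((orbData.getD o (0, [])).2 = (orbParts.getD o []).flatMap fun i => (partData.getD i ([], 1)).1) &&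
      decide (((orbParts.getD o []).map fun i => (partData.getD i ([], 1)).2).prod % 7 =
        if o < 7 then 1 else 6)) = true := by decide +kernel

theorem part_ok_0 : commOk [0, 1, 2] 1 = true := by decide +kernel

theorem part_ok_1 : commOk [3] 1 = true := by decide +kernel

theorem part_ok_2 : commOk [4] 1 = true := by decide +kernel

theorem part_ok_3 : commOk [0, 5, 6] 6 = true := by decide +kernel

theorem part_ok (i : ℕ) : commOk (partData.getD i ([], 1)).1 (partData.getD i ([], 1)).2 = true := by
  match i with
  | 0 => exact part_ok_0
  | 1 => exact part_ok_1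
  | 2 => exact part_ok_2
  | 3 => exact part_ok_3
  | i + 4 =>
    show commOk [] 1 = true
    decide +kernel

theorem pow_part_ok : commOk powWord 5 = true := by decide +kernel

theorem basis_ok : ((List.range 6).all fun i =>
    leechTest (basisL.getD i []) && decide (permImg sigL (basisL.getD i []) = basisL.getD i []) &&
      leechTest (dualL.getD i []) &&
      (List.range 6).all fun j =>
        decide (dotL (basisL.getD i []) (dualL.getD j []) % 16 = if i = j then 8 else 0)) = true := by
  decide +kernel

theorem basis_zero : basisL.getD 0 [] = base8 := by decide +kernel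

theorem span_ok : ((List.range genList.length).all fun i =>
    decide (spanW.getD i 0 < 64) &&
      halfOk (orbL (genList.getD i [])) (combL (spanW.getD i 0))) = true := by
  simp only [← halfOkS_eq]
  decide +kernel

theorem orb_ok : ((List.range 14).all fun o =>
    decide ((orbData.getD o (0, [])).1 = if o < 7 then o + 1 else 8 * (o - 6)) &&
      (List.range 6).all fun i =>
        decide ((orbImgs.getD o []).getD i 0 < 64) &&
          halfOk (wImg (orbData.getD o (0, [])).2 (basisL.getD i []))
            (combL ((orbImgs.getD o []).getD i 0))) = true := by
  simp only [← halfOkS_eq, ← foldr_wFuns]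
  decide +kernel

theorem orb_base_ok : ((List.range 14).all fun o =>
    decide ((orbImgs.getD o []).getD 0 0 = (orbData.getD o (0, [])).1)) = true := by decide +kernel

theorem rep_ok : ((List.range repData.length).all fun k =>
    leechTest (repData.getD k (0, [])).2 &&
      decide (dotL (repData.getD k (0, [])).2 (repData.getD k (0, [])).2 < 64) &&
      halfOk (repData.getD k (0, [])).2 (combL (repData.getD k (0, [])).1)) = true := by
  simp only [← halfOkS_eq]
  decide +kernel

theorem cases_ok : ((List.range 64).all fun m =>
    decide (m = 0) || (orbData.map Prod.fst).contains m || (repData.map Prod.fst).contains m) = true := by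
  decide +kernel

theorem cent_ok : ((List.range 42).all fun k =>
    permTest (centData.getD k []) && (List.range 6).all fun i =>
      decide ((centImgs.getD k []).getD i 0 < 64) &&
        halfOk (permImg (centData.getD k []) (basisL.getD i []))
          (combL ((centImgs.getD k []).getD i 0))) = true := by
  simp only [← halfOkS_eq]
  decide +kernel

theorem code_ok : ((List.range 8).all fun k =>
    inCode (codeData.getD k 0) && (List.range 6).all fun i =>
      decide ((codeImgs.getD k []).getD i 0 < 64) &&
        halfOk (signImg (codeData.getD k 0) (basisL.getD i []))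
          (combL ((codeImgs.getD k []).getD i 0))) = true := by
  simp only [← halfOkS_eq]
  decide +kernel

theorem fixed_code : allSpan (fun n => decide (imgMask sigL n ≠ n) || codeData.contains n) golayBasis 0 =
    true := by decide +kernel

/-- Everything in the centraliser keeps the first three-space; the identity comes only from the powers. -/
theorem first_space_ok : ((List.range 7).all fun o => (List.range 3).all fun i =>
      decide ((orbImgs.getD o []).getD i 0 < 8)) &&
    ((List.range 42).all fun k => (List.range 3).all fun i => decide ((centImgs.getD k []).getD i 0 < 8)) &&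
    ((List.range 8).all fun k => (List.range 3).all fun i => decide ((codeImgs.getD k []).getD i 0 < 8)) =
      true := by decide +kernel

theorem kernel_ok : ((List.range 42).all fun k => (List.range 8).all fun c =>
    !((List.range 3).all fun i =>
      linM (codeImgs.getD c []) ((centImgs.getD k []).getD i 0) == 2 ^ i) ||
    (((List.range 7).any fun j => decide (centData.getD k [] =
        (List.range 24).map fun i => Nat.iterate (fun x => sigL.getD x 0) j i)) &&
      (codeData.getD c 0 == 0 || codeData.getD c 0 == 16777215))) = true := by decide +kernel

/-- The images of the first three basis classes under the listed products. -/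
def reached : List (List ℕ) :=
  (List.range 7).flatMap fun o => (List.range 42).flatMap fun k => (List.range 8).map fun c =>
    (List.range 3).map fun i =>
      linM (orbImgs.getD o []) (linM (codeImgs.getD c []) ((centImgs.getD k []).getD i 0))

end CfsgLib.MonsterType.Seven
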