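import Cfsg.Agent.Lib.MonsterType.Seven.Checks

/-!
# The classes modulo two fixed by the element of cycle type seven cubed
-/

set_option autoImplicit false
set_option maxRecDepth 100000

open scoped Pointwise

namespace CfsgLib.MonsterType.Seven

open Cfsg CfsgLib.Golay CfsgLib.Leech CfsgLib.Leech.CoTwo

/-- The permutation of cycle type seven cubed. -/
noncomputable def sigP : M24 := ⟨permOf ptEquiv sigL, permTest_mem sigL_test⟩

/-- The automorphism of order seven. -/
noncomputable def gS : Co0 := (permLift sigP : Co0)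

theorem sigP_pow : sigP ^ 7 = 1 := by
  refine Subtype.ext ?_
  show (permOf ptEquiv sigL) ^ 7 = 1
  refine Equiv.ext fun p => ptEquiv.injective (Fin.ext ?_)
  have h := sigL_seven
  simp only [List.all_eq_true, List.mem_range, beq_iff_eq] at h
  simp only [pow_succ, pow_zero, one_mul, Equiv.Perm.mul_apply, Equiv.Perm.one_apply,
    permOf_apply ptEquiv (permTest_valid sigL_test)]
  exact h _ (ptEquiv p).isLt

theorem gS_pow : gS ^ 7 = 1 := by
  rw [gS, ← SubmonoidClass.coe_pow, ← map_pow, sigP_pow, map_one, OneMemClass.coe_one]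

theorem gS_mem : gS ∈ crossStab := (permLift sigP).2

theorem gS_spec {v : leechLattice} {l : List ℤ} (hv : (v : GolayPt → ℤ) = toVec l) :
    ((gS • v : leechLattice) : GolayPt → ℤ) = toVec (permImg sigL l) :=
  lift_spec sigL_test rfl hv

theorem gS_ne_one : gS ≠ 1 := by
  intro h
  have h1 := gS_spec (v := lv base8) (l := base8) (coe_lv (by decide +kernel))
  have h2 : (sigP : Equiv.Perm GolayPt) = 1 := by
    have : sigP = 1 := by
      rw [← permPart_permLift sigP, show permLift sigP = 1 from Subtype.ext h, map_one]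
    rw [this]; rfl
  have h3 := congrArg (fun σ : Equiv.Perm GolayPt => (ptEquiv (σ (pt 0))).val) h2
  simp only [sigP, permOf_apply ptEquiv (permTest_valid sigL_test), ptEquiv_pt (show 0 < 24 by norm_num),
    Equiv.Perm.one_apply] at h3
  revert h3
  decide +kernel

theorem orderOf_gS : orderOf gS = 7 := orderOf_eq_prime (hp := ⟨by norm_num⟩) gS_pow gS_ne_one

theorem gS_pow_spec {v : leechLattice} {l : List ℤ} (hv : (v : GolayPt → ℤ) = toVec l) :
    ∀ k : ℕ, ((gS ^ k • v : leechLattice) : GolayPt → ℤ) = toVec (Nat.iterate (permImg sigL) k l)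
  | 0 => by rw [pow_zero, one_smul, Function.iterate_zero_apply]; exact hv
  | k + 1 => by
    rw [pow_succ', mul_smul, Function.iterate_succ_apply']
    exact gS_spec (gS_pow_spec hv k)

theorem mat_check {j : ℕ} (hj : j < 8) :
    matCheck (matData.getD j []) (trM (matData.getD j [])) = true ∧
      matCheck (trM (matData.getD j [])) (matData.getD j []) = true := by
  have h := mats_ok
  simp only [List.all_eq_true, List.mem_range, Bool.and_eq_true] at h
  exact h j hj

/-- The automorphism of a factor. -/
noncomputable def matEl (j : ℕ) : Co0 :=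
  if hj : j < 8 then matAut _ _ (mat_check hj).1 (mat_check hj).2 else 1

/-- The automorphism of a word. -/
noncomputable def wEl (w : List ℕ) : Co0 := (w.map matEl).prod

theorem wEl_spec {v : leechLattice} {l : List ℤ} (hv : (v : GolayPt → ℤ) = toVec l) :
    ∀ {w : List ℕ}, (∀ j ∈ w, j < 8) → ((wEl w • v : leechLattice) : GolayPt → ℤ) = toVec (wImg w l)
  | [], _ => by
    rw [wEl, List.map_nil, List.prod_nil, one_smul]
    exact hv
  | j :: w, hw => by
    have ih := wEl_spec hv fun i hi => hw i (List.mem_cons_of_mem _ hi)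
    have hj := hw j List.mem_cons_self
    rw [wEl, List.map_cons, List.prod_cons, mul_smul, matEl, dif_pos hj, coe_matAut_smul, ← wEl, ih,
      applyMat_toVec]
    rfl

/-- The word of the `o`th class. -/
noncomputable def tEl (o : ℕ) : Co0 := wEl (orbData.getD o (0, [])).2

theorem word_lt {w : List ℕ} (hw : w = powWord ∨ ∃ o < 14, w = (orbData.getD o (0, [])).2) :
    ∀ j ∈ w, j < 8 := by
  have h := words_lt
  simp only [List.all_eq_true, decide_eq_true_eq] at h
  refine h w ?_
  rcases hw with rfl | ⟨o, ho, rfl⟩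
  · exact List.mem_cons_self
  · refine List.mem_cons_of_mem _ (List.mem_map.2 ⟨orbData.getD o (0, []), ?_, rfl⟩)
    have hlen : orbData.length = 14 := by decide +kernel
    rw [List.getD_eq_getElem _ _ (by omega)]
    exact List.getElem_mem _

theorem tEl_spec {o : ℕ} (ho : o < 14) {v : leechLattice} {l : List ℤ} (hv : (v : GolayPt → ℤ) = toVec l) :
    ((tEl o • v : leechLattice) : GolayPt → ℤ) = toVec (wImg (orbData.getD o (0, [])).2 l) :=
  wEl_spec hv (word_lt (Or.inr ⟨o, ho, rfl⟩))

theorem wEl_conj {w : List ℕ} {k : ℕ} (hw : ∀ j ∈ w, j < 8) (h : commOk w k = true) :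
    wEl w * gS * (wEl w)⁻¹ = gS ^ k := by
  rw [mul_inv_eq_iff_eq_mul]
  refine ext_gens fun v l hl hv => Subtype.ext ?_
  rw [mul_smul, mul_smul, wEl_spec (gS_spec hv) hw, gS_pow_spec (wEl_spec hv hw), comm_of_commOk h l hl]

theorem tEl_conj {o : ℕ} (ho : o < 14) :
    tEl o * gS * (tEl o)⁻¹ = gS ^ (if o < 7 then 1 else 6 : ℕ) := by
  have h := orb_parts_ok
  simp only [List.all_eq_true, List.mem_range, Bool.and_eq_true, decide_eq_true_eq] at h
  obtain ⟨hw, hk⟩ := h o ho
  rw [tEl, hw, ← hk, ← pow_eq_pow_mod _ gS_pow]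
  have hlt : ∀ i, ∀ j ∈ (partData.getD i ([], 1)).1, j < 8 := fun i =>
    match i with
    | 0 | 1 | 2 | 3 => by decide +kernel
    | i + 4 => fun j hj => absurd (show j ∈ ([] : List ℕ) from hj) List.not_mem_nil
  induction orbParts.getD o [] with
  | nil => simp [wEl]
  | cons i L ih =>
    simp only [List.flatMap_cons, List.map_cons, List.prod_cons, wEl, List.map_append, List.prod_append] at ih ⊢
    set a := ((partData.getD i ([], 1)).1.map matEl).prod
    set b := ((L.flatMap fun i => (partData.getD i ([], 1)).1).map matEl).prod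
    have ha : a * gS * a⁻¹ = gS ^ (partData.getD i ([], 1)).2 := wEl_conj (hlt i) (part_ok i)
    calc a * b * gS * (a * b)⁻¹ = a * (b * gS * b⁻¹) * a⁻¹ := by group
      _ = (a * gS * a⁻¹) ^ ((L.map fun i => (partData.getD i ([], 1)).2).prod) := by
        rw [ih, ← MulAut.conj_apply, map_pow, MulAut.conj_apply]
      _ = gS ^ ((partData.getD i ([], 1)).2 * (L.map fun i => (partData.getD i ([], 1)).2).prod) := by
        rw [ha, ← pow_mul]

/-- An automorphism inducing the fifth power. -/
noncomputable def powEl : Co0 := wEl powWord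

theorem powEl_conj : powEl * gS * powEl⁻¹ = gS ^ 5 := wEl_conj (word_lt (Or.inl rfl)) pow_part_ok

/-- The fixed basis. -/
def bV (i : ℕ) : leechLattice := lv (basisL.getD i [])

theorem basis_test {i : ℕ} (hi : i < 6) :
    leechTest (basisL.getD i []) = true ∧ permImg sigL (basisL.getD i []) = basisL.getD i [] ∧
      leechTest (dualL.getD i []) = true ∧
      ∀ j < 6, dotL (basisL.getD i []) (dualL.getD j []) % 16 = if i = j then 8 else 0 := by
  have h := basis_ok
  simp only [List.all_eq_true, List.mem_range, Bool.and_eq_true, decide_eq_true_eq] at h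
  exact ⟨(h i hi).1.1.1, (h i hi).1.1.2, (h i hi).1.2, (h i hi).2⟩

theorem coe_bV {i : ℕ} (hi : i < 6) : (bV i : GolayPt → ℤ) = toVec (basisL.getD i []) :=
  coe_lv (basis_test hi).1

theorem bV_fixed {i : ℕ} (hi : i < 6) : gS • bV i = bV i :=
  Subtype.ext (by rw [gS_spec (coe_bV hi), (basis_test hi).2.1, coe_bV hi])

/-- The selected sum of fixed basis vectors. -/
def comb (m : ℕ) : leechLattice :=
  (List.range 6).foldr (fun i acc => if m.testBit i then bV i + acc else acc) 0

theorem coe_comb (m : ℕ) : (comb m : GolayPt → ℤ) = toVec (combL m) := by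
  have key : ∀ L : List ℕ, (∀ i ∈ L, i < 6) →
      ((L.foldr (fun i acc => if m.testBit i then bV i + acc else acc) 0 : leechLattice) : GolayPt → ℤ) =
        toVec (L.foldr (fun i acc => if m.testBit i then
          (List.range 24).map fun j => (basisL.getD i []).getD j 0 + acc.getD j 0 else acc)
          ((List.range 24).map fun _ => 0)) := by
    intro L hL
    induction L with
    | nil =>
      funext p
      simp only [List.foldr_nil, toVec_range, ZeroMemClass.coe_zero, Pi.zero_apply]
    | cons i L ih =>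
      have ih' := ih fun j hj => hL j (List.mem_cons_of_mem _ hj)
      simp only [List.foldr_cons]
      split
      · funext p
        rw [AddSubgroup.coe_add, Pi.add_apply, coe_bV (hL i List.mem_cons_self), ih', toVec_range]
        rfl
      · exact ih'
  exact key _ fun i hi => List.mem_range.1 hi

theorem comb_eq_sum (m : ℕ) : comb m = ∑ i : Fin 6, if m.testBit i.val then bV i.val else 0 := by
  simp only [comb, List.range_succ_eq_map, List.range_zero, List.map_nil, List.map_cons, List.foldr_cons,
    List.foldr_nil, Fin.sum_univ_six, Fin.val_zero, Fin.val_one, Fin.val_two]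
  have e3 : ((3 : Fin 6) : ℕ) = 3 := rfl
  have e4 : ((4 : Fin 6) : ℕ) = 4 := rfl
  have e5 : ((5 : Fin 6) : ℕ) = 5 := rfl
  simp only [e3, e4, e5]
  cases m.testBit 0 <;> cases m.testBit 1 <;> cases m.testBit 2 <;> cases m.testBit 3 <;>
    cases m.testBit 4 <;> cases m.testBit 5 <;> simp [add_assoc]

theorem two_mem (x : leechLattice) : x + x ∈ twoMul leechLattice := mem_twoMul_iff_add.2 ⟨x, rfl⟩

theorem comb_xor (a b : ℕ) : comb a + comb b - comb (a ^^^ b) ∈ twoMul leechLattice := by
  rw [comb_eq_sum, comb_eq_sum, comb_eq_sum, ← Finset.sum_add_distrib, ← Finset.sum_sub_distrib]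
  refine sum_mem fun k _ => ?_
  rw [Nat.testBit_xor]
  cases a.testBit k.val <;> cases b.testBit k.val <;> simp <;> exact two_mem _

theorem comb_two_pow {i : ℕ} (hi : i < 6) : comb (2 ^ i) = bV i := by
  rw [comb_eq_sum, Finset.sum_eq_single (⟨i, hi⟩ : Fin 6)]
  · simp
  · intro j _ hj
    rw [if_neg]
    simp only [Nat.testBit_two_pow, decide_eq_true_eq]
    exact fun h => hj (Fin.ext h.symm)
  · simp

theorem comb_zero : comb 0 = 0 := by simp [comb_eq_sum]

theorem comb_fixed (m : ℕ) : gS • comb m = comb m := by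
  rw [comb_eq_sum, smul_sum']
  refine Finset.sum_congr rfl fun i _ => ?_
  split
  · exact bV_fixed i.isLt
  · exact map_zero (actHom gS)

/-- The inner product with a dual vector. -/
def parJ (j : ℕ) : leechLattice →+ ℤ :=
  AddMonoidHom.mk' (fun v => dotInt (v : GolayPt → ℤ) (toVec (dualL.getD j [])))
    fun _ _ => Cfsg.dotInt_add_left _ _ _

theorem parJ_twoMul {j : ℕ} (hj : j < 6) {v : leechLattice} (hv : v ∈ twoMul leechLattice) :
    (16 : ℤ) ∣ parJ j v := by
  obtain ⟨w, rfl⟩ := mem_twoMul_iff_add.1 hv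
  rw [map_add]
  have h := eight_dvd_dotInt w.2 (mem_of_leechTest (basis_test hj).2.2.1)
  show (16 : ℤ) ∣ dotInt (w : GolayPt → ℤ) _ + dotInt (w : GolayPt → ℤ) _
  omega

theorem parJ_comb {j : ℕ} (hj : j < 6) (m : ℕ) :
    parJ j (comb m) % 16 = if m.testBit j then 8 else 0 := by
  have hb : ∀ i : Fin 6, parJ j (bV i.val) % 16 = if i.val = j then 8 else 0 := fun i => by
    show dotInt (bV i.val : GolayPt → ℤ) (toVec (dualL.getD j [])) % 16 = _
    rw [coe_bV i.isLt, dotInt_toVec]
    exact (basis_test i.isLt).2.2.2 j hj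
  rw [comb_eq_sum, map_sum, Finset.sum_int_mod, Finset.sum_eq_single (⟨j, hj⟩ : Fin 6)]
  · show (parJ j (if m.testBit j then bV j else 0) % 16) % 16 = _
    split
    · rw [hb ⟨j, hj⟩, if_pos rfl]; rfl
    · simp
  · intro i _ hi
    split
    · rw [hb i, if_neg fun h => hi (Fin.ext h)]
    · simp
  · simp

theorem comb_inj {a b : ℕ} (ha : a < 64) (hb : b < 64) (h : comb a - comb b ∈ twoMul leechLattice) :
    a = b := by
  refine Nat.eq_of_testBit_eq fun i => ?_
  rcases Nat.lt_or_ge i 6 with hi | hi
  · have h1 := parJ_twoMul hi h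
    rw [map_sub] at h1
    have ha' := parJ_comb hi a
    have hb' := parJ_comb hi b
    revert ha' hb'
    cases a.testBit i <;> cases b.testBit i <;> simp <;> omega
  · have hp : (64 : ℕ) ≤ 2 ^ i := (by norm_num : (64 : ℕ) = 2 ^ 6) ▸ Nat.pow_le_pow_right (by norm_num) hi
    rw [Nat.testBit_lt_two_pow (by omega), Nat.testBit_lt_two_pow (by omega)]

theorem coe_orbit {v : leechLattice} {l : List ℤ} (hv : (v : GolayPt → ℤ) = toVec l) :
    ((∑ i ∈ Finset.range 7, (gS ^ i) • v : leechLattice) : GolayPt → ℤ) = toVec (orbL l) := by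
  funext p
  simp only [Finset.sum_range_succ, Finset.sum_range_zero, zero_add, AddSubgroup.coe_add, Pi.add_apply,
    gS_pow_spec hv, orbL, toVec_range]
  rfl

theorem exists_comb_orbit (v : leechLattice) :
    ∃ m < 64, (∑ i ∈ Finset.range 7, (gS ^ i) • v) - comb m ∈ twoMul leechLattice := by
  have := lat_induction (P := fun x => x ∈ leechLattice ∧ ∀ hx : x ∈ leechLattice,
      ∃ m < 64, (∑ i ∈ Finset.range 7, (gS ^ i) • (⟨x, hx⟩ : leechLattice)) - comb m ∈ twoMul leechLattice)
    ⟨zero_mem _, fun hx => ⟨0, by norm_num, by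
      have hz : ∀ i : ℕ, gS ^ i • (⟨0, hx⟩ : leechLattice) = 0 := fun i => map_zero (actHom (gS ^ i))
      rw [Finset.sum_eq_zero fun i _ => hz i, comb_zero, sub_zero]
      exact zero_mem _⟩⟩
    (fun x y ⟨mx, ix⟩ ⟨my, iy⟩ => ⟨add_mem mx my, fun hxy => by
      obtain ⟨a, ha, ea⟩ := ix mx
      obtain ⟨b, hb, eb⟩ := iy my
      refine ⟨a ^^^ b, Nat.xor_lt_two_pow (n := 6) ha hb, ?_⟩
      rw [show (⟨x + y, hxy⟩ : leechLattice) = ⟨x, mx⟩ + ⟨y, my⟩ from rfl]
      simp only [smul_add', Finset.sum_add_distrib]
      have := add_mem (add_mem ea eb) (comb_xor a b)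
      convert this using 1
      abel⟩)
    (fun x ⟨mx, ix⟩ => ⟨neg_mem mx, fun hx => by
      obtain ⟨a, ha, ea⟩ := ix mx
      refine ⟨a, ha, ?_⟩
      rw [show (⟨-x, hx⟩ : leechLattice) = -⟨x, mx⟩ from rfl]
      simp only [smul_neg', Finset.sum_neg_distrib]
      have := sub_mem (neg_mem ea) (two_mem (comb a))
      convert this using 1
      abel⟩)
    (fun l hl => ⟨mem_of_leechTest (List.all_eq_true.1 genList_ok l hl), fun hx => by
      obtain ⟨k, hk, rfl⟩ := List.getElem_of_mem hl
      have h := span_ok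
      simp only [List.all_eq_true, List.mem_range, Bool.and_eq_true, decide_eq_true_eq] at h
      refine ⟨spanW.getD k 0, (h k hk).1, congr_of_halfOk (coe_orbit rfl) (coe_comb _) ?_⟩
      rw [← List.getD_eq_getElem genList [] hk]
      exact (h k hk).2⟩) v.2
  exact this.2 v.2

theorem exists_comb {v : leechLattice} (hv : gS • v - v ∈ twoMul leechLattice) :
    ∃ m < 64, v - comb m ∈ twoMul leechLattice := by
  obtain ⟨m, hm, h⟩ := exists_comb_orbit v
  refine ⟨m, hm, ?_⟩
  have h1 : ∑ i ∈ Finset.range 7, ((gS ^ i) • v - v) ∈ twoMul leechLattice :=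
    AddSubgroup.sum_mem _ fun i _ => pow_smul_congr hv i
  rw [Finset.sum_sub_distrib, Finset.sum_const, Finset.card_range] at h1
  have h2 := add_mem h1 (natCast_smul_sub_self v ⟨3, rfl⟩)
  have h3 := sub_mem h h2
  convert h3 using 1
  abel

/-- The basis of the fixed classes. -/
noncomputable def fixBasis : FixBasis gS (2 * 3) where
  b i := bV i.val
  fixed i := bV_fixed i.isLt
  span v hv := by
    obtain ⟨m, -, hm⟩ := exists_comb (v := v) (by rw [hv, sub_self]; exact zero_mem _)
    refine ⟨Finset.univ.filter fun i : Fin 6 => m.testBit i.val, ?_⟩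
    rwa [Finset.sum_filter, ← comb_eq_sum]
  indep S hS := by
    classical
    refine Finset.eq_empty_of_forall_notMem fun j hj => ?_
    have h1 := parJ_twoMul j.isLt hS
    have hb : ∀ i : Fin 6, parJ j.val (bV i.val) % 16 = if i.val = j.val then 8 else 0 := fun i => by
      show dotInt (bV i.val : GolayPt → ℤ) (toVec (dualL.getD j.val [])) % 16 = _
      rw [coe_bV i.isLt, dotInt_toVec]
      exact (basis_test i.isLt).2.2.2 j.val j.isLt
    have h2 : parJ j.val (∑ i ∈ S, bV i.val) % 16 = 8 := by
      rw [map_sum, Finset.sum_int_mod, Finset.sum_eq_single j]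
      · rw [hb, if_pos rfl]; rfl
      · intro i _ hi
        rw [hb, if_neg fun h => hi (Fin.ext h)]
      · exact fun h => absurd hj h
    omega

/-- A map known on the basis classes is known on every class. -/
theorem act_comb {h : Co0} {img : List ℕ}
    (hh : ∀ i < 6, h • bV i - comb (img.getD i 0) ∈ twoMul leechLattice) (m : ℕ) :
    h • comb m - comb (linM img m) ∈ twoMul leechLattice := by
  have key : ∀ L : List ℕ, (∀ i ∈ L, i < 6) →
      h • (L.foldr (fun i acc => if m.testBit i then bV i + acc else acc) 0 : leechLattice) -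
        comb (L.foldr (fun i acc => if m.testBit i then img.getD i 0 ^^^ acc else acc) 0) ∈
          twoMul leechLattice := by
    intro L hL
    induction L with
    | nil =>
      rw [List.foldr_nil, List.foldr_nil, show h • (0 : leechLattice) = 0 from map_zero (actHom h),
        comb_zero, sub_zero]
      exact zero_mem _
    | cons i L ih =>
      have ih' := ih fun j hj => hL j (List.mem_cons_of_mem _ hj)
      simp only [List.foldr_cons]
      split
      · rw [smul_add']
        have := add_mem (add_mem (hh i (hL i List.mem_cons_self)) ih')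
          (comb_xor (img.getD i 0)
            (L.foldr (fun i acc => if m.testBit i then img.getD i 0 ^^^ acc else acc) 0))
        convert this using 1
        abel
      · exact ih'
  exact key _ fun i hi => List.mem_range.1 hi

theorem bV_zero : bV 0 = baseVec := by
  refine Subtype.ext ?_
  rw [coe_bV (by norm_num), basis_zero, base8]
  funext p
  rw [toVec_range, baseVec, coe_axisVec, Pi.single_apply]
  revert p
  decide +kernel

theorem tEl_img {o : ℕ} (ho : o < 14) {i : ℕ} (hi : i < 6) :
    tEl o • bV i - comb ((orbImgs.getD o []).getD i 0) ∈ twoMul leechLattice := by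
  have h := orb_ok
  simp only [List.all_eq_true, List.mem_range, Bool.and_eq_true, decide_eq_true_eq] at h
  exact congr_of_halfOk (tEl_spec ho (coe_bV hi)) (coe_comb _) ((h o ho).2 i hi).2

/-- The class of the base vector under a word. -/
theorem tEl_base {o : ℕ} (ho : o < 14) :
    tEl o • baseVec - comb (if o < 7 then o + 1 else 8 * (o - 6)) ∈ twoMul leechLattice := by
  have h := orb_ok
  simp only [List.all_eq_true, List.mem_range, Bool.and_eq_true, decide_eq_true_eq] at h
  have h' := orb_base_ok
  simp only [List.all_eq_true, List.mem_range, decide_eq_true_eq] at h'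
  rw [← bV_zero, ← (h o ho).1, ← h' o ho]
  exact tEl_img ho (by norm_num)

/-- The classes of the base vector under the centraliser or an inverting element. -/
theorem class_cases {v : leechLattice} (hn : sqNorm (v : GolayPt → ℤ) = 64) {m : ℕ} (hm : m < 64)
    (h : v - comb m ∈ twoMul leechLattice) :
    ∃ o < 14, m = if o < 7 then o + 1 else 8 * (o - 6) := by
  have hc := cases_ok
  simp only [List.all_eq_true, List.mem_range, Bool.or_eq_true, decide_eq_true_eq, List.contains_eq_mem,
    List.mem_map] at hc
  rcases hc m hm with (rfl | ⟨⟨m', w⟩, hmw, rfl⟩) | ⟨⟨m', r⟩, hmr, rfl⟩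
  · exfalso
    rw [comb_zero, sub_zero] at h
    have h0 : sqNorm ((0 : leechLattice) : GolayPt → ℤ) = 0 := by simp [sqNorm]
    have := sqNorm_eq_of_congr (v := v) (w := 0) (by rwa [sub_zero]) (le_of_eq hn) (by omega)
    omega
  · obtain ⟨o, ho, e⟩ := List.getElem_of_mem hmw
    have hlen : orbData.length = 14 := by decide +kernel
    have ho' : o < 14 := by omega
    have h2 := orb_ok
    simp only [List.all_eq_true, List.mem_range, Bool.and_eq_true, decide_eq_true_eq] at h2
    refine ⟨o, ho', ?_⟩
    rw [← (h2 o ho').1, List.getD_eq_getElem _ _ ho, e]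
  · exfalso
    obtain ⟨k, hk, e⟩ := List.getElem_of_mem hmr
    have h2 := rep_ok
    simp only [List.all_eq_true, List.mem_range, Bool.and_eq_true, decide_eq_true_eq] at h2
    obtain ⟨⟨h3, h4⟩, h5⟩ := h2 k hk
    rw [List.getD_eq_getElem _ _ hk, e] at h3 h4 h5
    simp only at h3 h4 h5
    have h6 := sub_mem h (congr_of_halfOk (coe_lv h3) (coe_comb m') h5)
    rw [sub_sub_sub_cancel_right] at h6
    have hr : sqNorm (lv r : GolayPt → ℤ) = dotL r r := by
      rw [coe_lv h3, ← dotInt_toVec]
      simp [sqNorm, dotInt, pow_two]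
    have := sqNorm_eq_of_congr h6 (le_of_eq hn) (by omega)
    omega

end CfsgLib.MonsterType.Seven
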