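import Cfsg.Agent.Lib.MonsterType.Seven.Action
import Cfsg.Agent.Lib.MonsterType.Local.Quot
import Cfsg.Agent.Lib.MonsterType.Local.Move
import Cfsg.Agent.Lib.Classical.SLBasic
import Cfsg.Agent.Lib.Cores.Basic

/-!
# The centraliser of a Sylow 7-subgroup of the joint centraliser, modulo it
-/

set_option autoImplicit false
set_option maxRecDepth 100000
set_option Elab.async false

open scoped Pointwise

namespace CfsgLib.MonsterType.Seven

open Cfsg CfsgLib.Golay CfsgLib.Leech CfsgLib.Leech.CoTwo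

theorem isSimpleGroup_slTwo : IsSimpleGroup (Matrix.SpecialLinearGroup (Fin 3) (ZMod 2)) := by
  haveI : Fact (Nat.Prime 2) := ⟨Nat.prime_two⟩
  haveI := CfsgLib.Classical.isSimpleGroup_PSL (ι := Fin 3) (F := ZMod 2) (by simp)
  have hz : ∀ a : ZMod 2, a = 0 ∨ a = 1 := zmod_two_cases
  have hc : Subgroup.center (Matrix.SpecialLinearGroup (Fin 3) (ZMod 2)) = ⊥ := by
    rw [eq_bot_iff]
    intro A hA
    obtain ⟨r, hr, hA⟩ := Matrix.SpecialLinearGroup.mem_center_iff.1 hA
    rw [Subgroup.mem_bot]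
    apply Subtype.ext
    rw [← hA]
    rcases hz r with rfl | rfl
    · simp at hr
    · simp
  let e2 : Matrix.ProjectiveSpecialLinearGroup (Fin 3) (ZMod 2) ≃* Matrix.SpecialLinearGroup (Fin 3) (ZMod 2) :=
    (QuotientGroup.quotientMulEquivOfEq hc).trans QuotientGroup.quotientBot
  haveI : Nontrivial (Matrix.SpecialLinearGroup (Fin 3) (ZMod 2)) := e2.symm.surjective.nontrivial
  exact IsSimpleGroup.isSimpleGroup_of_surjective e2.toMonoidHom e2.surjective

theorem pCore_slTwo : pCore 2 (Matrix.SpecialLinearGroup (Fin 3) (ZMod 2)) = ⊥ := by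
  haveI : Fact (Nat.Prime 2) := ⟨Nat.prime_two⟩
  haveI := isSimpleGroup_slTwo
  haveI := CfsgLib.Cores.pCore_characteristic (G := Matrix.SpecialLinearGroup (Fin 3) (ZMod 2)) 2
  refine (inferInstance : (pCore 2 (Matrix.SpecialLinearGroup (Fin 3) (ZMod 2))).Normal).eq_bot_or_eq_top.resolve_right fun h => ?_
  have h2 := CfsgLib.Cores.pCore_eq_top_iff.1 h
  let A : Matrix.SpecialLinearGroup (Fin 3) (ZMod 2) :=
    ⟨!![0, 0, 1; 1, 0, 0; 0, 1, 0], by simp [Matrix.det_fin_three]⟩
  obtain ⟨k, hk⟩ := h2 A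
  have h3 : orderOf A = 3 := by
    refine orderOf_eq_prime (hp := ⟨Nat.prime_three⟩) ?_ ?_
    · refine Subtype.ext ?_
      show !![(0 : ZMod 2), 0, 1; 1, 0, 0; 0, 1, 0] ^ 3 = 1
      ext i j
      fin_cases i <;> fin_cases j <;> simp [pow_succ, Matrix.mul_apply, Fin.sum_univ_three]
    · intro h
      have := congrFun (congrFun (congrArg Subtype.val h) 0) 0
      simp [A] at this
  exact absurd (Nat.prime_three.dvd_of_dvd_pow (h3 ▸ orderOf_dvd_of_pow_eq_one hk)) (by norm_num)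

/-- Two subgroups of prime order are conjugate when the prime divides the order only once. -/
theorem exists_conj_of_card_prime {K : Type*} [Group K] [Finite K] {p : ℕ} [Fact p.Prime]
    (hK : (Nat.card K).factorization p = 1) {A C : Subgroup K} (hA : Nat.card A = p) (hC : Nat.card C = p) :
    ∃ m : K, ∀ a ∈ A, m * a * m⁻¹ ∈ C := by
  let PA : Sylow p K := Sylow.ofCard A (by rw [hA, hK, pow_one])
  let PC : Sylow p K := Sylow.ofCard C (by rw [hC, hK, pow_one])
  obtain ⟨m, hm⟩ := MulAction.exists_smul_eq K PA PC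
  refine ⟨m, fun a ha => ?_⟩
  have : MulAut.conj m a ∈ ((m • PA : Sylow p K) : Subgroup K) := by
    rw [Sylow.coe_subgroup_smul, Subgroup.mem_smul_pointwise_iff_exists]
    exact ⟨a, ha, rfl⟩
  rw [hm] at this
  exact this

theorem factorization_joint (m : ℕ) : (2 ^ m * 244823040).factorization 7 = 1 := by
  have h7 : Nat.Prime 7 := by norm_num
  rw [Nat.factorization_mul (pow_ne_zero _ (by norm_num)) (by norm_num), Finsupp.add_apply,
    show (244823040 : ℕ) = 7 * 34974720 by norm_num, Nat.factorization_mul (by norm_num) (by norm_num),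
    Finsupp.add_apply, h7.factorization_self, Nat.factorization_eq_zero_of_not_dvd
      (fun h => absurd (h7.dvd_of_dvd_pow h) (by norm_num : ¬ 7 ∣ 2)),
    Nat.factorization_eq_zero_of_not_dvd (by norm_num : ¬ 7 ∣ 34974720), zero_add, add_zero]

/-- Elements of order seven of the monomial group are conjugate to powers of the standard one. -/
theorem conj_to_gS {g : Co0} (hg : g ∈ crossStab) (ho : orderOf g = 7) :
    ∃ m ∈ crossStab, ∃ j : ℕ, ¬ 7 ∣ j ∧ (m * g * m⁻¹) ^ j = gS := by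
  classical
  haveI : Fact (Nat.Prime 7) := ⟨by norm_num⟩
  haveI : Finite crossStab := Nat.finite_of_card_ne_zero (by rw [card_crossStab]; norm_num)
  have hK : (Nat.card crossStab).factorization 7 = 1 := by
    rw [card_crossStab, show (4096 : ℕ) = 2 ^ 12 by norm_num]
    exact factorization_joint 12
  have hb : orderOf (⟨gS, gS_mem⟩ : crossStab) = 7 := by rw [Subgroup.orderOf_mk]; exact orderOf_gS
  have ha : orderOf (⟨g, hg⟩ : crossStab) = 7 := by rw [Subgroup.orderOf_mk]; exact ho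
  obtain ⟨m, hm⟩ := exists_conj_of_card_prime hK (A := Subgroup.zpowers (⟨gS, gS_mem⟩ : crossStab))
    (C := Subgroup.zpowers (⟨g, hg⟩ : crossStab)) (by rw [Nat.card_zpowers, hb]) (by rw [Nat.card_zpowers, ha])
  have h1 := hm _ (Subgroup.mem_zpowers _)
  rw [← mem_powers_iff_mem_zpowers, Submonoid.mem_powers_iff] at h1
  obtain ⟨j, hj⟩ := h1
  have h2 : g ^ j = (m : Co0) * gS * (m : Co0)⁻¹ := by simpa using congrArg Subtype.val hj
  refine ⟨(m : Co0)⁻¹, inv_mem m.2, j, fun hd => gS_ne_one ?_, ?_⟩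
  · rw [orderOf_dvd_iff_pow_eq_one.1 (ho ▸ hd), eq_comm, conj_eq_one_iff] at h2
    exact h2
  · rw [inv_inv, show (m : Co0)⁻¹ * g * m = MulAut.conj (m : Co0)⁻¹ g by simp, ← map_pow, h2]
    simp [mul_assoc]

theorem hpow_seven {k : ℕ} (hk : ¬ 7 ∣ k) : ∃ h : Co0, h * gS * h⁻¹ = gS ^ k :=
  hpow_of_primitive powEl_conj gS_pow (by decide) hk (by norm_num)

variable {G : Type*} [Group G] [Finite G] {z : G} {Q : Subgroup (Subgroup.centralizer ({z} : Set G))} [Q.Normal]
  {e : (Subgroup.centralizer ({z} : Set G)) ⧸ Q ≃* Spor.Co1}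
  {ψ : leechLattice → Q ⧸ Subgroup.center Q} {x : Q} {B : Subgroup G}

theorem factorization_jointCentralizer (hM : IsOfMonsterType z Q) {s : G} (hsQ : s ∈ qG Q)
    (hs : IsConj z s) (hs1 : s ≠ z) :
    (Nat.card ↥(Subgroup.centralizer ({z, s} : Set G))).factorization 7 = 1 := by
  obtain ⟨hS, e, ψ, hψ⟩ := hM
  obtain ⟨hsc, hsQ'⟩ := mem_qG_iff.1 hsQ
  obtain ⟨v, hv, hvx⟩ := exists_type64_of_conj hS hψ (x := ⟨⟨s, hsc⟩, hsQ'⟩) hs hs1
  obtain ⟨g₀, hg₀⟩ := exists_congr_smul (v := v) (w := baseVec)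
    (inner_self_of_norm (by rw [hv]; norm_num)) baseVec_eight
  obtain ⟨m, hm⟩ := card_jointCentralizer hS (isoTwist hψ g₀) (x := ⟨⟨s, hsc⟩, hsQ'⟩) (by
    show ψ (g₀⁻¹ • baseVec) = _
    rw [← hvx]
    refine (psi_eq_iff hψ).2 ?_
    have h := neg_mem (smul_mem_twoMul g₀⁻¹ hg₀)
    rw [smul_sub', inv_smul_smul, neg_sub] at h
    exact h)
  rw [hm]
  exact factorization_joint m

/-- Standard coordinates for a Sylow 7-subgroup of the joint centraliser. -/
theorem exists_setup (hM : IsOfMonsterType z Q) {s : G} (hsQ : s ∈ qG Q) (hs : IsConj z s) (hs1 : s ≠ z)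
    (hB : B ≤ Subgroup.centralizer ({z, s} : Set G))
    (hBp : Nat.card B = 7 ^ (Nat.card ↥(Subgroup.centralizer ({z, s} : Set G))).factorization 7) :
    ∃ (e : (Subgroup.centralizer ({z} : Set G)) ⧸ Q ≃* Spor.Co1)
      (ψ : leechLattice → Q ⧸ Subgroup.center Q) (x : Q),
      ((x : Subgroup.centralizer ({z} : Set G)) : G) = s ∧ LocalData 7 e ψ x B gS := by
  have hcard : Nat.card B = 7 := by rw [hBp, factorization_jointCentralizer hM hsQ hs hs1, pow_one]
  obtain ⟨e, ψ, x, g, hx, D⟩ := exists_localData hM hsQ hs hs1 (by norm_num : Nat.Prime 7) (by norm_num) hB hcard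
  obtain ⟨m, hm, j, hj, hgen⟩ := conj_to_gS D.gmem D.gord
  exact ⟨_, _, x, hx, hgen ▸ (D.conj hm).pow hj⟩

/-- Every conjugate of `z` in the centralised part of `Q` is conjugate to `z` in the centraliser of `B`. -/
theorem exists_move_B (hM : IsOfMonsterType z Q) (D : LocalData 7 e ψ x B gS) {y : G} (hyQ : y ∈ qG Q)
    (hyB : y ∈ Subgroup.centralizer (B : Set G)) (hy : IsConj z y) (hy1 : y ≠ z) :
    ∃ c ∈ Subgroup.centralizer (B : Set G), c * y * c⁻¹ = z := by
  classical
  haveI : Fact (Nat.Prime 7) := ⟨by norm_num⟩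
  obtain ⟨hsC, hs1⟩ := D.isConj_s
  set s : G := ((x : Subgroup.centralizer ({z} : Set G)) : G) with hs
  obtain ⟨a, ha, haz⟩ := exists_move D.hS D.iso hyQ hy hy1 (coe_mem_qG x) hsC hs1
  have haz' : a * z * a⁻¹ = s := haz
  set L := Subgroup.centralizer ({z, s} : Set G) with hL
  have hzB : ∀ b ∈ B, b * z = z * b := fun b hb =>
    Subgroup.mem_centralizer_singleton_iff.1 (D.le_z hb)
  have hBa : B.map (MulAut.conj a).toMonoidHom ≤ L := by
    rintro _ ⟨b, hb, rfl⟩
    refine Subgroup.mem_centralizer_iff.2 fun w hw => ?_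
    simp only [MulEquiv.coe_toMonoidHom, MulAut.conj_apply]
    rcases hw with rfl | rfl
    · calc w * (a * b * a⁻¹) = a * (y * b) * a⁻¹ := by rw [← ha]; group
        _ = a * (b * y) * a⁻¹ := by rw [Subgroup.mem_centralizer_iff.1 hyB b hb]
        _ = a * b * a⁻¹ * w := by rw [← ha]; group
    · calc s * (a * b * a⁻¹) = a * (z * b) * a⁻¹ := by rw [← haz']; group
        _ = a * (b * z) * a⁻¹ := by rw [hzB b hb]
        _ = a * b * a⁻¹ * s := by rw [← haz']; group
  have hK : (Nat.card L).factorization 7 = 1 := factorization_jointCentralizer hM (coe_mem_qG x) hsC hs1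
  obtain ⟨l, hl⟩ := exists_conj_of_card_prime hK (A := (B.map (MulAut.conj a).toMonoidHom).subgroupOf L)
    (C := B.subgroupOf L)
    (by rw [Nat.card_congr (Subgroup.subgroupOfEquivOfLe hBa).toEquiv,
      Subgroup.card_map_of_injective (MulEquiv.injective _), D.card])
    (by rw [Nat.card_congr (Subgroup.subgroupOfEquivOfLe D.le).toEquiv, D.card])
  refine D.exists_fix_move (fun k hk => hpow_seven hk) ha (Subgroup.centralizer_le (by simp) l.2) fun b hb => ?_
  have h := Subgroup.mem_subgroupOf.1 (hl ⟨a * b * a⁻¹, hBa ⟨b, hb, rfl⟩⟩ (Subgroup.mem_subgroupOf.2 ⟨b, hb, rfl⟩))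
  simp only [Subgroup.coe_mul, InvMemClass.coe_inv] at h
  rwa [show (l : G) * a * b * ((l : G) * a)⁻¹ = (l : G) * (a * b * a⁻¹) * (l : G)⁻¹ by group]

/-- The classes of the conjugates of the second involution. -/
def classMask (o : ℕ) : ℕ := if o < 7 then o + 1 else 8 * (o - 6)

theorem classMask_lt {o : ℕ} (ho : o < 14) : classMask o < 64 := by rw [classMask]; split <;> omega

theorem classMask_inj {o o' : ℕ} (ho : o < 14) (ho' : o' < 14) (h : classMask o = classMask o') : o = o' := by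
  simp only [classMask] at h
  split at h <;> split at h <;> omega

theorem class_mem_iff (D : LocalData 7 e ψ x B gS) (y : Q) :
    (y ∈ centQ Q B ∧ IsConj z ((y : Subgroup.centralizer ({z} : Set G)) : G) ∧
        ((y : Subgroup.centralizer ({z} : Set G)) : G) ≠ z) ↔
      ∃ o < 14, QuotientGroup.mk y = ψ (comb (classMask o)) := by
  constructor
  · rintro ⟨hy, hyc⟩
    obtain ⟨v, hv, hvy⟩ := (conj_iff_type64 D.hS D.iso y).1 hyc
    obtain ⟨m, hm, hcl⟩ := exists_comb ((D.mem_centQ_iff_congr hvy).1 hy)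
    obtain ⟨o, ho, rfl⟩ := class_cases hv hm hcl
    exact ⟨o, ho, by rw [← hvy]; exact (psi_eq_iff D.iso).2 hcl⟩
  · rintro ⟨o, ho, he⟩
    set v : leechLattice := tEl o • baseVec
    have hv : sqNorm (v : GolayPt → ℤ) = 64 := by rw [sqNorm_smul_co, sqNorm_baseVec]
    have hvy : ψ v = QuotientGroup.mk y := by
      rw [he]
      exact (psi_eq_iff D.iso).2 (tEl_base ho)
    refine ⟨(D.mem_centQ_iff_congr hvy).2 ?_, (conj_iff_type64 D.hS D.iso y).2 ⟨v, hv, hvy⟩⟩
    have h1 : tEl o • baseVec - comb (classMask o) ∈ twoMul leechLattice := tEl_base ho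
    have h2 := smul_mem_twoMul gS h1
    rw [smul_sub'] at h2
    have hfix : gS • comb (classMask o) = comb (classMask o) := by
      rw [comb_eq_sum, ← actHom_apply, map_sum]
      refine Finset.sum_congr rfl fun i _ => ?_
      rw [actHom_apply]
      split
      · exact bV_fixed i.isLt
      · exact map_zero (actHom gS)
    rw [hfix] at h2
    have := sub_mem h2 h1
    rwa [sub_sub_sub_cancel_right] at this

/-- The conjugates of `z` in the centralised part of `Q`. -/
def conjSet (Q : Subgroup (Subgroup.centralizer ({z} : Set G))) (B : Subgroup G) : Set G :=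
  {y | y ∈ qG Q ∧ y ∈ Subgroup.centralizer (B : Set G) ∧ IsConj z y}

theorem ncard_conjSet (D : LocalData 7 e ψ x B gS) : (conjSet Q B).ncard = 29 := by
  classical
  have hS := D.hS
  have hrep : ∀ o : Fin 14, ∃ y : Q, QuotientGroup.mk y = ψ (comb (classMask o.val)) := fun o =>
    QuotientGroup.mk_surjective _
  choose r hr using hrep
  set zQ : Q := ⟨⟨z, self_mem_centralizer⟩, z_mem hS⟩ with hzQ
  have hzc : zQ ∈ Subgroup.center Q := (center_cases hS).2 (Or.inr rfl)
  have hzne : zQ ≠ 1 := fun h => z_ne_one hS (congrArg (fun q : Q => ((q : _) : G)) h)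
  let f : Fin 14 × Bool → G := fun ob =>
    (((r ob.1 * if ob.2 then zQ else 1 : Q) : Subgroup.centralizer ({z} : Set G)) : G)
  have hmk : ∀ ob : Fin 14 × Bool,
      (QuotientGroup.mk (r ob.1 * if ob.2 then zQ else 1) : Q ⧸ Subgroup.center Q) =
        ψ (comb (classMask ob.1.val)) := fun ob => by
    rw [QuotientGroup.mk_mul_of_mem, hr]
    split
    exacts [hzc, one_mem _]
  have hf : Function.Injective f := by
    rintro ⟨o, b⟩ ⟨o', b'⟩ h
    have h1 : r o * (if b then zQ else 1) = r o' * (if b' then zQ else 1) := Subtype.ext (Subtype.ext h)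
    have h2 := congrArg (QuotientGroup.mk (s := Subgroup.center Q)) h1
    rw [hmk (o, b), hmk (o', b'), psi_eq_iff D.iso] at h2
    obtain rfl : o = o' := Fin.ext (classMask_inj o.isLt o'.isLt
      (comb_inj (classMask_lt o.isLt) (classMask_lt o'.isLt) h2))
    cases b <;> cases b' <;> simp [hzne] at h1 ⊢
  have hset : conjSet Q B = insert z (Set.range f) := by
    ext y
    constructor
    · rintro ⟨hyQ, hyB, hy⟩
      by_cases hy1 : y = z
      · exact Or.inl hy1
      · obtain ⟨hyc, hyQ'⟩ := mem_qG_iff.1 hyQ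
        obtain ⟨o, ho, he⟩ := (class_mem_iff D ⟨⟨y, hyc⟩, hyQ'⟩).1 ⟨hyB, hy, hy1⟩
        have hd : (r ⟨o, ho⟩)⁻¹ * ⟨⟨y, hyc⟩, hyQ'⟩ ∈ Subgroup.center Q :=
          QuotientGroup.eq.1 ((hr ⟨o, ho⟩).trans he.symm)
        have hy' : (⟨⟨y, hyc⟩, hyQ'⟩ : Q) = r ⟨o, ho⟩ * ((r ⟨o, ho⟩)⁻¹ * ⟨⟨y, hyc⟩, hyQ'⟩) := by group
        have hyG := congrArg (fun q : Q => ((q : Subgroup.centralizer ({z} : Set G)) : G)) hy'
        rcases (center_cases hS).1 hd with h | h
        · refine Or.inr ⟨(⟨o, ho⟩, false), ?_⟩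
          simp only [f, Bool.false_eq_true, if_false, mul_one]
          simp only [Subgroup.coe_mul] at hyG h
          rw [hyG, h, mul_one]
        · refine Or.inr ⟨(⟨o, ho⟩, true), ?_⟩
          simp only [f, if_true, Subgroup.coe_mul]
          simp only [Subgroup.coe_mul] at hyG h
          rw [hyG, h]
    · rintro (rfl | ⟨ob, rfl⟩)
      · exact ⟨z_mem_qG hS, D.z_mem_centralizer, IsConj.refl _⟩
      · obtain ⟨h1, h2, -⟩ := (class_mem_iff D _).2 ⟨_, ob.1.isLt, hmk ob⟩
        exact ⟨coe_mem_qG _, h1, h2⟩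
  have hzn : z ∉ Set.range f := by
    rintro ⟨ob, h⟩
    exact ((class_mem_iff D _).2 ⟨_, ob.1.isLt, hmk ob⟩).2.2 h
  rw [hset, Set.ncard_insert_of_notMem hzn, Set.ncard_range_of_injective hf]
  simp

theorem orderOf_dvd_seven (D : LocalData 7 e ψ x B gS) {b : G} (hb : b ∈ B) : b ^ 7 = 1 := by
  have := congrArg Subtype.val (pow_card_eq_one' (x := (⟨b, hb⟩ : B)))
  rw [D.card] at this
  simpa using this

/-- The centraliser of `B` modulo `B` at the image of `z`, with the number of conjugates. -/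
theorem held_data (hM : IsOfMonsterType z Q) (D : LocalData 7 e ψ x B gS)
    [hn : (B.subgroupOf (Subgroup.centralizer (B : Set G))).Normal] :
    ∃ (hz : z ∈ Subgroup.centralizer (B : Set G))
      (Qb : Subgroup (Subgroup.centralizer ({(QuotientGroup.mk ⟨z, hz⟩ :
        ↥(Subgroup.centralizer (B : Set G)) ⧸ B.subgroupOf (Subgroup.centralizer (B : Set G)))} :
          Set (↥(Subgroup.centralizer (B : Set G)) ⧸ B.subgroupOf (Subgroup.centralizer (B : Set G))))))
      (_ : Qb.Normal),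
      IsExtraspecialCentralizerSetting (QuotientGroup.mk ⟨z, hz⟩ :
        ↥(Subgroup.centralizer (B : Set G)) ⧸ B.subgroupOf (Subgroup.centralizer (B : Set G))) Qb 3 ∧
      Nonempty (_ ⧸ Qb ≃* Matrix.SpecialLinearGroup (Fin 3) (ZMod 2)) ∧
      {d | d ∈ Qb ∧ IsConj (QuotientGroup.mk ⟨z, hz⟩ :
        ↥(Subgroup.centralizer (B : Set G)) ⧸ B.subgroupOf (Subgroup.centralizer (B : Set G)))
          (d : ↥(Subgroup.centralizer (B : Set G)) ⧸ B.subgroupOf (Subgroup.centralizer (B : Set G)))}.ncard = 29 := by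
  classical
  obtain ⟨hsC, hs1⟩ := D.isConj_s
  obtain ⟨c, hc, hcs⟩ := exists_move_B hM D (coe_mem_qG x) D.self_mem_centQ hsC hs1
  obtain ⟨hz, Qb, hQn, hset, hiso, hmem⟩ := quot_setting (w := 3) (by norm_num) D fixBasis toSL
    toSL_surjective toSL_eq_one_iff faithful pCore_slTwo hc hcs
  refine ⟨hz, Qb, hQn, hset, hiso, ?_⟩
  set H := Subgroup.centralizer (B : Set G) with hH
  set N := B.subgroupOf H with hN
  rw [← ncard_conjSet D]
  have hinjm : ∀ a b : H, (a : G) ∈ qG Q → (b : G) ∈ qG Q → (QuotientGroup.mk a : H ⧸ N) = QuotientGroup.mk b →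
      a = b := by
    intro a b ha hb h
    have h1 := Subgroup.mem_subgroupOf.1 (QuotientGroup.eq.1 h)
    simp only [Subgroup.coe_mul, InvMemClass.coe_inv] at h1
    exact Subtype.ext (inv_mul_eq_one.1 (eq_one_of_mem_qG D.prime D.odd D.hS D.card h1
      (mul_mem (inv_mem ha) hb)))
  symm
  refine Set.ncard_congr (fun y hy => ⟨QuotientGroup.mk ⟨y, hy.2.1⟩, ?_⟩) ?_ ?_ ?_
  · rw [Subgroup.mem_centralizer_singleton_iff, ← QuotientGroup.mk_mul, ← QuotientGroup.mk_mul]
    exact congrArg _ (Subtype.ext (Subgroup.mem_centralizer_singleton_iff.1 (qG_le_centralizer hy.1)))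
  · intro y hy
    refine ⟨(hmem _).2 ⟨⟨y, hy.2.1⟩, hy.1, rfl⟩, ?_⟩
    by_cases hy1 : y = z
    · subst hy1
      exact IsConj.refl _
    · obtain ⟨c', hc', hcy⟩ := exists_move_B hM D hy.1 hy.2.1 hy.2.2 hy1
      refine IsConj.symm (isConj_iff.2 ⟨QuotientGroup.mk ⟨c', hc'⟩, ?_⟩)
      show QuotientGroup.mk' N _ * QuotientGroup.mk' N _ * (QuotientGroup.mk' N _)⁻¹ = QuotientGroup.mk' N _
      rw [← map_inv, ← map_mul, ← map_mul]
      exact congrArg _ (Subtype.ext (by simpa using hcy))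
  · intro a b ha hb h
    exact congrArg Subtype.val (hinjm ⟨a, ha.2.1⟩ ⟨b, hb.2.1⟩ ha.1 hb.1 (congrArg Subtype.val h))
  · rintro d ⟨hd, hdc⟩
    obtain ⟨q, hq, hqd⟩ := (hmem d).1 hd
    obtain ⟨h, hh⟩ := isConj_iff.1 hdc
    obtain ⟨h, rfl⟩ := QuotientGroup.mk_surjective h
    set zH : H := ⟨z, hz⟩
    change QuotientGroup.mk' N h * QuotientGroup.mk' N zH * (QuotientGroup.mk' N h)⁻¹ = _ at hh
    rw [← map_inv, ← map_mul, ← map_mul, ← hqd] at hh
    have h1 := Subgroup.mem_subgroupOf.1 (QuotientGroup.eq.1 hh)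
    simp only [Subgroup.coe_mul, InvMemClass.coe_inv] at h1
    set w : G := (h : G) * z * (h : G)⁻¹ with hw
    set b : G := w⁻¹ * (q : G) with hb
    have hwH : w ∈ H := mul_mem (mul_mem h.2 hz) (inv_mem h.2)
    have hww : w * w = 1 := by
      calc w * w = (h : G) * (z * z) * (h : G)⁻¹ := by rw [hw]; group
        _ = 1 := by rw [z_sq D.hS]; group
    have hcomm : Commute w b := (Subgroup.mem_centralizer_iff.1 hwH _ h1).symm
    have hqb : (q : G) = w * b := by rw [hb]; group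
    have hb7 := orderOf_dvd_seven D h1
    have hq14 : (q : G) ^ 14 = 1 := by
      rw [hqb, hcomm.mul_pow, pow_mul w 2 7, pow_mul b 7 2, hb7, pow_two, hww, one_pow, one_pow, one_mul]
    have hq2 : (q : G) ^ 2 = 1 := by
      have h2 : orderOf (q : G) ∣ 2 ^ 25 := card_qG D.hS ▸ Subgroup.orderOf_dvd_natCard _ hq
      have h3 := Nat.dvd_gcd h2 (orderOf_dvd_of_pow_eq_one hq14)
      exact orderOf_dvd_iff_pow_eq_one.1 h3
    have hb1 : b = 1 := by
      rw [hqb, hcomm.mul_pow, pow_two w, hww, one_mul] at hq2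
      have : b ^ 7 = b := by rw [show (7 : ℕ) = 2 * 3 + 1 by norm_num, pow_succ, pow_mul, hq2, one_pow, one_mul]
      rw [← this, hb7]
    refine ⟨q, ⟨hq, q.2, isConj_iff.2 ⟨h, ?_⟩⟩, Subtype.ext hqd⟩
    rw [hqb, hb1, mul_one]

/-- The centraliser of `B` modulo `B` is of Held type. -/
theorem held_setting (hM : IsOfMonsterType z Q) (D : LocalData 7 e ψ x B gS)
    [hn : (B.subgroupOf (Subgroup.centralizer (B : Set G))).Normal] :
    IsOfHeldType (↥(Subgroup.centralizer (B : Set G)) ⧸ B.subgroupOf (Subgroup.centralizer (B : Set G))) := by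
  obtain ⟨_, Qb, hQn, hset, hiso, hcount⟩ := held_data hM D
  exact ⟨_, Qb, hQn, hset, hiso, hcount⟩

end CfsgLib.MonsterType.Seven
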