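import Cfsg.Agent.Lib.MonsterType.Seven.InvertChecks
import Cfsg.Agent.Lib.MonsterType.Seven.Main

/-!
# An involution inverting the subgroup of order seven
-/

set_option autoImplicit false
set_option maxRecDepth 100000

open scoped Pointwise

namespace CfsgLib.MonsterType

open Cfsg CfsgLib.Leech CfsgLib.LargeExtra

variable {G : Type*} [Group G] [Finite G] {z : G} {Q : Subgroup (Subgroup.centralizer ({z} : Set G))} [Q.Normal]
  {e : (Subgroup.centralizer ({z} : Set G)) ⧸ Q ≃* Spor.Co1}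
  {ψ : leechLattice → Q ⧸ Subgroup.center Q}

/-- A sign change lifts to an involution of the centraliser of `z`. -/
theorem exists_involution_lift (hS : IsExtraspecialCentralizerSetting z Q 12) (hψ : IsLeechModTwoIso Q e ψ)
    {x : Q} (hbase : ψ baseVec = QuotientGroup.mk x) {k : crossStab} (hk : permPart k = 1)
    (hkc : (k : Co0) ∉ Subgroup.center Co0) :
    ∃ t : Subgroup.centralizer ({z} : Set G), t * t = 1 ∧ QuotientGroup.mk t = proj e (k : Co0) := by
  classical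
  obtain ⟨hconj, hs1⟩ := (conj_iff_type64 hS hψ x).2 ⟨baseVec, sqNorm_baseVec, hbase⟩
  set s : G := ((x : Subgroup.centralizer ({z} : Set G)) : G) with hs
  have hsQ : s ∈ qG Q := coe_mem_qG x
  obtain ⟨hE, hcard, -, hgs⟩ := core_facts hS hψ hsQ hconj hs1
  have himg := eSub_eq_image (e := e) hS hψ (v := baseVec) hbase sqNorm_baseVec hconj hs1 (g₀ := 1)
    (by rw [one_smul, sub_self]; exact zero_mem _)
  have hmem : proj e (k : Co0) ∈ eSub Q s := by
    rw [himg]
    exact ⟨k, MonoidHom.mem_ker.2 hk, by rw [frameMap_apply]; simp⟩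
  obtain ⟨h, ⟨hhs, -⟩, hh⟩ := mem_barSub.1 hmem
  have hss : s * s = 1 := by rw [← sq, ← hgs.1, pow_orderOf_eq_one]
  have hsq : ∀ {a : G}, a ∈ coreC s → a * a = 1 ∨ a * a = s := by
    intro a ha
    have hm : a * a ∈ Subgroup.zpowers s := hgs.centre_eq ▸ ⟨_, sq_mem_center hgs.2.1 ⟨a, ha⟩, rfl⟩
    obtain ⟨i, hi⟩ := Subgroup.mem_zpowers_iff.1 hm
    have h2 : s ^ (2 : ℤ) = 1 := by rw [zpow_two, hss]
    rw [← hi]
    rcases Int.even_or_odd i with ⟨j, rfl⟩ | ⟨j, rfl⟩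
    · left; rw [← two_mul, zpow_mul, h2, one_zpow]
    · right; rw [zpow_add, zpow_mul, h2, one_zpow, one_mul, zpow_one]
  rcases hsq hhs with hh2 | hh2
  · exact ⟨h, Subtype.ext hh2, hh⟩
  set E := qG Q ⊓ coreC s with hEdef
  have hEsq : ∀ a ∈ E, a * a = 1 := by
    intro a ha
    obtain ⟨hac, haQ⟩ := mem_qG_iff.1 ha.1
    rcases (center_cases hS).1 (sq_mem_center (extraspecial hS) (⟨⟨a, hac⟩, haQ⟩ : Q)) with h1 | h1
    · exact h1
    · rcases hsq ha.2 with h2 | h2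
      · exact h2
      · exact absurd (h2.symm.trans h1) hs1
  have hsE : s ∈ E := ⟨hsQ, hgs.mem_self⟩
  have hEcard : Nat.card E = 2 ^ 13 := (frame_structure hS hψ hsQ hconj hs1).1
  by_cases hall : ∀ a ∈ E, a * (h : G) = (h : G) * a
  · exfalso
    set E' : Subgroup (coreC s) := E.subgroupOf (coreC s) with hE'
    have hE'card : Nat.card E' = 2 ^ 13 :=
      (Nat.card_congr (Subgroup.subgroupOfEquivOfLe inf_le_right).toEquiv).trans hEcard
    have hZ : Subgroup.center ↥(coreC s) ≤ E' := fun c hc => by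
      have : (c : G) ∈ Subgroup.zpowers s := hgs.centre_eq ▸ ⟨c, hc, rfl⟩
      exact Subgroup.mem_subgroupOf.2 (Subgroup.zpowers_le.2 hsE this)
    have h3 := card_centralizer_mul_card hgs.2.1 E' hZ
    rw [hgs.2.1.2, hcard, hE'card] at h3
    have hle : E' ≤ Subgroup.centralizer (E' : Set (coreC s)) := fun a ha => by
      refine Subgroup.mem_centralizer_iff.2 fun b hb => Subtype.ext ?_
      have ha' := inv_eq_of_mul_eq_one_left (hEsq _ (Subgroup.mem_subgroupOf.1 ha))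
      have hb' := inv_eq_of_mul_eq_one_left (hEsq _ (Subgroup.mem_subgroupOf.1 hb))
      have hab' := inv_eq_of_mul_eq_one_left
        (hEsq _ (mul_mem (Subgroup.mem_subgroupOf.1 hb) (Subgroup.mem_subgroupOf.1 ha)))
      rw [mul_inv_rev, ha', hb'] at hab'
      exact hab'.symm
    have heq : E' = Subgroup.centralizer (E' : Set (coreC s)) := Subgroup.eq_of_le_of_card_ge hle (by
      rw [hE'card]; omega)
    have hhE : (⟨(h : G), hhs⟩ : coreC s) ∈ E' :=
      heq.symm ▸ Subgroup.mem_centralizer_iff.2 fun b hb => Subtype.ext (hall _ (Subgroup.mem_subgroupOf.1 hb))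
    obtain ⟨hc', hQ'⟩ := mem_qG_iff.1 (Subgroup.mem_subgroupOf.1 hhE).1
    refine hkc ((proj_eq_one_iff (e := e)).1 ?_)
    rw [← hh, QuotientGroup.eq_one_iff]
    exact hQ'
  · push_neg at hall
    obtain ⟨a, ha, hne⟩ := hall
    obtain ⟨hac, haQ⟩ := mem_qG_iff.1 ha.1
    refine ⟨h * ⟨a, hac⟩, Subtype.ext ?_, ?_⟩
    · show (h : G) * a * ((h : G) * a) = 1
      have hc := (hgs.conj_eq ha.2 hhs).resolve_left fun e' => hne (mul_inv_eq_iff_eq_mul.1 e')
      have hai : a⁻¹ = a := inv_eq_of_mul_eq_one_left (hEsq a ha)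
      have hsh : s * (h : G) = (h : G) * s :=
        (Subgroup.mem_centralizer_singleton_iff.1 (coreC_le_centralizer s hhs)).symm
      rw [hai] at hc
      calc (h : G) * a * ((h : G) * a) = (h : G) * (a * (h : G) * a) := by group
        _ = (h : G) * ((h : G) * s) := by rw [hc, hsh]
        _ = ((h : G) * (h : G)) * s := by group
        _ = 1 := by rw [hh2, hss]
    · rw [QuotientGroup.mk_mul_of_mem _ haQ, hh]

theorem pow_four_eq_one (hS : IsExtraspecialCentralizerSetting z Q 12) {q : Subgroup.centralizer ({z} : Set G)}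
    (hq : q ∈ Q) : q ^ 4 = 1 := by
  have h := center_sq hS (sq_mem_center (extraspecial hS) (⟨q, hq⟩ : Q))
  have h2 := congrArg Subtype.val h
  simp only [Subgroup.coe_mul, OneMemClass.coe_one] at h2
  rw [show (4 : ℕ) = 2 + 2 by norm_num, pow_add, pow_two]
  exact h2

end CfsgLib.MonsterType

namespace CfsgLib.MonsterType.Seven

open Cfsg CfsgLib.Golay CfsgLib.Leech CfsgLib.Leech.CoTwo CfsgLib.LargeExtra

variable {G : Type*} [Group G] [Finite G] {z : G} {Q : Subgroup (Subgroup.centralizer ({z} : Set G))} [Q.Normal]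
  {e : (Subgroup.centralizer ({z} : Set G)) ⧸ Q ≃* Spor.Co1}
  {ψ : leechLattice → Q ⧸ Subgroup.center Q} {x : Q} {B : Subgroup G}

/-- Some involution of the centraliser of `z` inverts `B`. -/
theorem exists_inverting (D : LocalData 7 e ψ x B gS) :
    ∃ t ∈ Subgroup.centralizer ({z} : Set G), orderOf t = 2 ∧ ∀ b ∈ B, t * b * t⁻¹ = b⁻¹ := by
  classical
  haveI : Fact (Nat.Prime 7) := ⟨by norm_num⟩
  have hS := D.hS
  have heps : eps ∈ crossStab := monoAut_mem _ _ _ _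
  have hkp : permPart ⟨eps, heps⟩ = 1 := by
    refine Subtype.ext ?_
    rw [show (⟨eps, heps⟩ : crossStab) = ⟨monoAut (permOf ptEquiv (List.range 24)) (permTest_mem range_test) _
      invC_set, monoAut_mem _ _ _ _⟩ from rfl, permPart_monoAut]
    refine Equiv.ext fun p => ptEquiv.injective (Fin.ext ?_)
    rw [permOf_apply _ (permTest_valid range_test)]
    simp [List.getD]
  have hkc : eps ∉ Subgroup.center Co0 := by
    intro hc
    refine invU_ne_one ?_
    have h1 : eps * invU * eps = invU := by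
      rw [← Subgroup.mem_center_iff.1 hc invU, mul_assoc, eps_sq, mul_one]
    have h2 : invU * invU = 1 := mul_eq_one_iff_eq_inv.2 (h1.symm.trans eps_conj)
    calc invU = invU ^ 7 * ((invU * invU) ^ 3)⁻¹ := by rw [← pow_two, ← pow_mul]; group
      _ = 1 := by rw [invU_pow, h2, one_pow, inv_one, mul_one]
  obtain ⟨t₀, ht₀, ht₀e'⟩ := exists_involution_lift hS D.iso D.base (k := ⟨eps, heps⟩) hkp hkc
  have ht₀e : (QuotientGroup.mk t₀ : _ ⧸ Q) = proj e eps := ht₀e'
  have ht₀i : t₀⁻¹ = t₀ := inv_eq_of_mul_eq_one_left ht₀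
  obtain ⟨c, hc⟩ := QuotientGroup.mk_surjective (proj e invU)
  set W := t₀ * c * t₀ * c⁻¹ with hW
  have hWimg : (QuotientGroup.mk W : _ ⧸ Q) = proj e (invU⁻¹ * invU⁻¹) := by
    rw [hW, QuotientGroup.mk_mul, QuotientGroup.mk_mul, QuotientGroup.mk_mul, QuotientGroup.mk_inv, ht₀e, hc,
      ← map_inv, ← map_mul, ← map_mul, ← map_mul, eps_conj]
  have hu7 : (invU⁻¹) ^ 7 = 1 := by rw [inv_pow, invU_pow, inv_one]
  set y := W ^ 4 with hy
  have hyimg : (QuotientGroup.mk y : _ ⧸ Q) = proj e invU⁻¹ := by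
    rw [hy, QuotientGroup.mk_pow, hWimg, ← map_pow, ← pow_two, ← pow_mul, pow_eq_pow_mod _ hu7, pow_one]
  have hy7 : y ^ 7 = 1 := by
    rw [hy, ← pow_mul, show 4 * 7 = 7 * 4 by norm_num, pow_mul]
    refine pow_four_eq_one hS ((QuotientGroup.eq_one_iff _).1 ?_)
    rw [QuotientGroup.mk_pow, hWimg, ← map_pow, ← pow_two, ← pow_mul, pow_eq_pow_mod _ hu7, pow_zero, map_one]
  have hWinv : t₀ * W * t₀⁻¹ = W⁻¹ := by
    rw [hW, ht₀i, mul_inv_rev, mul_inv_rev, mul_inv_rev, inv_inv, ht₀i]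
    calc t₀ * (t₀ * c * t₀ * c⁻¹) * t₀ = (t₀ * t₀) * (c * t₀ * c⁻¹ * t₀) := by group
      _ = c * (t₀ * (c⁻¹ * t₀)) := by rw [ht₀, one_mul]; group
  have hyinv : t₀ * y * t₀⁻¹ = y⁻¹ := by
    rw [hy, ← MulAut.conj_apply, map_pow, MulAut.conj_apply, hWinv, inv_pow]
  -- move to the standard element
  obtain ⟨v, hv, hvfix⟩ := invV_spec
  obtain ⟨g₀, hg₀⟩ := exists_congr_smul (v := v) (w := baseVec)
    (inner_self_of_norm (by rw [hv]; norm_num)) baseVec_eight
  have hmem : g₀ * invU⁻¹ * g₀⁻¹ ∈ crossStab := by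
    rw [mem_crossStab_iff_congr]
    have hvfix' : invU⁻¹ • v = v := inv_smul_eq_iff.2 hvfix.symm
    have h1 := smul_mem_twoMul (g₀ * invU⁻¹ * g₀⁻¹) hg₀
    rw [smul_sub', ← mul_smul, inv_mul_cancel_right, mul_smul, hvfix'] at h1
    have := sub_mem hg₀ h1
    rwa [sub_sub_sub_cancel_left] at this
  have hord : orderOf (g₀ * invU⁻¹ * g₀⁻¹) = 7 := by
    refine orderOf_eq_prime ?_ ?_
    · rw [← MulAut.conj_apply, ← map_pow, hu7, map_one]
    · rw [Ne, conj_eq_one_iff, inv_eq_one]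
      exact invU_ne_one
  obtain ⟨m, -, j, -, hgen⟩ := conj_to_gS hmem hord
  set k : Co0 := m * g₀ with hk
  have hkj : (k * invU⁻¹ * k⁻¹) ^ j = gS := by rw [← hgen, hk]; simp [mul_assoc]
  obtain ⟨kc, hkce⟩ := QuotientGroup.mk_surjective (proj e k)
  set y' := (kc * y * kc⁻¹) ^ j with hy'
  set t' := kc * t₀ * kc⁻¹ with ht'
  have hy'img : (QuotientGroup.mk y' : _ ⧸ Q) = proj e gS := by
    rw [hy', QuotientGroup.mk_pow, QuotientGroup.mk_mul, QuotientGroup.mk_mul, QuotientGroup.mk_inv, hkce, hyimg,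
      ← map_inv, ← map_mul, ← map_mul, ← map_pow, hkj]
  have hy'7 : y' ^ 7 = 1 := by
    rw [hy', ← pow_mul, mul_comm, pow_mul, conj_pow, hy7, mul_one, mul_inv_cancel, one_pow]
  have hy'inv : t' * y' * t'⁻¹ = y'⁻¹ := by
    rw [hy', ← MulAut.conj_apply, map_pow, MulAut.conj_apply, ← inv_pow]
    congr 1
    calc t' * (kc * y * kc⁻¹) * t'⁻¹ = kc * (t₀ * y * t₀⁻¹) * kc⁻¹ := by rw [ht']; group
      _ = (kc * y * kc⁻¹)⁻¹ := by rw [hyinv]; group
  -- conjugate into `B`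
  obtain ⟨b₀, hb₀, hb₀e⟩ := D.exists_gen
  set K : Subgroup (Subgroup.centralizer ({z} : Set G)) :=
    (Subgroup.zpowers (proj e gS)).comap (QuotientGroup.mk' Q) with hKdef
  have hgS1 : proj e gS ≠ 1 := fun h1 =>
    D.g_ne_one (eq_of_proj_eq (e := e) D.hpf D.gpow (one_pow 7) (h1.trans (map_one _).symm))
  have hKcard : Nat.card K = 2 ^ 25 * 7 := by
    rw [card_eq_map_mul_ker_inf (QuotientGroup.mk' Q) K, hKdef, Subgroup.map_comap_eq_self_of_surjective
      (QuotientGroup.mk'_surjective Q), inf_eq_left.2 (Subgroup.ker_le_comap _ _), QuotientGroup.ker_mk',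
      card_Q hS, Nat.card_zpowers, orderOf_eq_prime (by rw [← map_pow, D.gpow, map_one]) hgS1, mul_comm]
  have hKf : (Nat.card K).factorization 7 = 1 := by
    rw [hKcard, Nat.factorization_mul (pow_ne_zero _ (by norm_num)) (by norm_num), Finsupp.add_apply,
      Nat.Prime.factorization_self (by norm_num), Nat.factorization_eq_zero_of_not_dvd, zero_add]
    exact fun h => absurd ((by norm_num : Nat.Prime 7).dvd_of_dvd_pow h) (by norm_num : ¬ 7 ∣ 2)
  have ho : ∀ a : Subgroup.centralizer ({z} : Set G), a ^ 7 = 1 → QuotientGroup.mk a = proj e gS →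
      orderOf a = 7 := fun a h1 h2 => orderOf_eq_prime h1 fun h3 => hgS1 (by rw [← h2, h3]; rfl)
  have hyK : y' ∈ K := by rw [hKdef, Subgroup.mem_comap]; exact ⟨1, (zpow_one _).trans hy'img.symm⟩
  have hbK : b₀ ∈ K := by rw [hKdef, Subgroup.mem_comap]; exact ⟨1, (zpow_one _).trans hb₀e.symm⟩
  have hb7 : b₀ ^ 7 = 1 := Subtype.ext (by simpa using orderOf_dvd_seven D hb₀)
  obtain ⟨w, hw⟩ := exists_conj_of_card_prime hKf (A := Subgroup.zpowers (⟨y', hyK⟩ : K))
    (C := Subgroup.zpowers (⟨b₀, hbK⟩ : K))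
    (by rw [Nat.card_zpowers, Subgroup.orderOf_mk, ho _ hy'7 hy'img])
    (by rw [Nat.card_zpowers, Subgroup.orderOf_mk, ho _ hb7 hb₀e])
  set wC : Subgroup.centralizer ({z} : Set G) := (w : Subgroup.centralizer ({z} : Set G)) with hwC
  have hy₀ : ((wC * y' * wC⁻¹ : Subgroup.centralizer ({z} : Set G)) : G) ∈ B := by
    obtain ⟨i, hi⟩ := Subgroup.mem_zpowers_iff.1 (hw _ (Subgroup.mem_zpowers _))
    have h1 := congrArg (fun a : K => ((a : Subgroup.centralizer ({z} : Set G)) : G)) hi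
    simp only [SubgroupClass.coe_zpow, Subgroup.coe_mul, InvMemClass.coe_inv] at h1 ⊢
    rw [hwC, ← h1]
    exact zpow_mem hb₀ i
  set y₀ : B := ⟨_, hy₀⟩ with hy₀def
  set t : Subgroup.centralizer ({z} : Set G) := wC * t' * wC⁻¹ with ht
  have hinv₀ : (t : G) * y₀ * (t : G)⁻¹ = (y₀ : G)⁻¹ := by
    have : t * (wC * y' * wC⁻¹) * t⁻¹ = (wC * y' * wC⁻¹)⁻¹ := by
      calc t * (wC * y' * wC⁻¹) * t⁻¹ = wC * (t' * y' * t'⁻¹) * wC⁻¹ := by rw [ht]; group
        _ = _ := by rw [hy'inv]; group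
    have h1 := congrArg Subtype.val this
    simpa [hy₀def] using h1
  have hy₀1 : y₀ ≠ 1 := by
    intro h1
    have h2 : wC * y' * wC⁻¹ = 1 := Subtype.ext (by simpa [hy₀def] using congrArg Subtype.val h1)
    rw [conj_eq_one_iff] at h2
    exact hgS1 (by rw [← hy'img, h2]; rfl)
  have hgenB : ∀ b ∈ B, t * b * (t : G)⁻¹ = b⁻¹ := by
    intro b hb
    have hb' : (⟨b, hb⟩ : B) ∈ Subgroup.zpowers y₀ := mem_zpowers_of_prime_card D.card hy₀1
    obtain ⟨i, hi⟩ := Subgroup.mem_zpowers_iff.1 hb'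
    have h1 : b = (y₀ : G) ^ i := by simpa using (congrArg Subtype.val hi).symm
    rw [h1, ← conj_zpow, hinv₀, inv_zpow]
  have ht1 : t * t = 1 := by
    calc t * t = wC * kc * (t₀ * t₀) * (wC * kc)⁻¹ := by rw [ht, ht']; group
      _ = 1 := by rw [ht₀]; group
  refine ⟨t, t.2, orderOf_eq_prime (hp := ⟨Nat.prime_two⟩) (by rw [pow_two]; exact congrArg Subtype.val ht1) ?_, hgenB⟩
  intro h1
  have h2 := hgenB _ y₀.2
  rw [h1, one_mul, inv_one, mul_one] at h2
  have h3 : y₀ * y₀ = 1 := mul_eq_one_iff_eq_inv.2 (Subtype.ext (by simpa using h2))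
  refine hy₀1 ?_
  have h4 := orderOf_dvd_seven D y₀.2
  have h5 : y₀ ^ 7 = 1 := Subtype.ext (by simpa using h4)
  calc y₀ = y₀ ^ 7 * ((y₀ * y₀) ^ 3)⁻¹ := by rw [← pow_two, ← pow_mul]; group
    _ = 1 := by rw [h5, h3, one_pow, inv_one, mul_one]

end CfsgLib.MonsterType.Seven
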