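import Cfsg.Agent.Lib.MonsterType.Seven.Classes

/-!
# A product of two conjugate sign changes of order seven with a fixed vector of the third shell
-/

set_option autoImplicit false
set_option maxRecDepth 100000
set_option Elab.async false

namespace CfsgLib.MonsterType.Seven

open Cfsg CfsgLib.Golay CfsgLib.Leech CfsgLib.Leech.CoTwo

/-- The code word of the sign change. -/
def invC : ℕ := 15012659

/-- The word of the conjugating element. -/
def invW : List ℕ := [0, 5, 0, 1]

/-- The fixed vector. -/
def invV : List ℤ :=
  [-2, -4, 0, 0, 0, -2, 0, 0, -2, 0, 0, 0, -2, 0, 0, -2, 4, 0, 2, 2, 0, 0, -2, 0]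

/-- The sign change on lists. -/
def epsImg (l : List ℤ) : List ℤ := signImg invC (permImg (List.range 24) l)

/-- The transposed word on lists. -/
def wImgT (w : List ℕ) (l : List ℤ) : List ℤ :=
  w.foldr (fun j x => imgList (trM (matData.getD j [])) x) l

/-- The conjugated sign change on lists. -/
def epsImg' (l : List ℤ) : List ℤ := wImg invW (epsImg (wImgT invW.reverse l))

theorem invW_lt : ∀ j ∈ invW, j < 8 := by decide +kernel

theorem invC_code : inCode invC = true ∧ invC < 2 ^ 24 := by decide +kernel

/-- The factors of the conjugated sign change. -/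
def eps'Funs : List (List ℤ → List ℤ) :=
  wFuns invW ++ epsImg :: invW.reverse.map fun j => imgList (trM (matData.getD j []))

/-- The factors of the element of order seven. -/
def invFuns : List (List ℤ → List ℤ) := epsImg :: eps'Funs

theorem foldr_eps'Funs (l : List ℤ) : eps'Funs.foldr (fun f x => f x) l = epsImg' l := by
  rw [eps'Funs, List.foldr_append, List.foldr_cons, List.foldr_map, foldr_wFuns]
  rfl

theorem foldr_invFuns (l : List ℤ) : invFuns.foldr (fun f x => f x) l = epsImg (epsImg' l) := by
  rw [invFuns, List.foldr_cons, foldr_eps'Funs]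

/-- The seventh power fixes a list, with every step evaluated. -/
def sevenOkS (l : List ℤ) : Bool :=
  withRun ((List.replicate 7 invFuns).flatten) l fun r => sameList r l

theorem seven_of (l : List ℤ) (h : sevenOkS l = true) :
    Nat.iterate (fun x => epsImg (epsImg' x)) 7 l = l := by
  simp only [sevenOkS, withRun_eq, List.replicate, List.flatten_cons, List.flatten_nil, List.foldr_append,
    foldr_invFuns, List.foldr_nil] at h
  exact eq_of_sameList h

theorem seven_0 : (List.range 10).all (fun i => sevenOkS (genList.getD i [])) = true := by decide +kernel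

theorem seven_1 : (List.range 10).all (fun i => sevenOkS (genList.getD (10 + i) [])) = true := by decide +kernel

theorem seven_2 : (List.range 10).all (fun i => sevenOkS (genList.getD (20 + i) [])) = true := by decide +kernel

theorem seven_3 : (List.range 7).all (fun i => sevenOkS (genList.getD (30 + i) [])) = true := by decide +kernel

theorem eps'_ok : (genList.all fun l => withRun (eps'Funs ++ eps'Funs) l fun r => sameList r l) = true := by
  decide +kernel

theorem eps_ok : (genList.all fun l => withRun [epsImg, epsImg] l fun r => sameList r l) = true := by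
  decide +kernel

theorem inv_fix : (leechTest invV && decide (epsImg (epsImg' invV) = invV) &&
    decide (dotL invV invV = 64) && (genList.any fun l => decide (epsImg (epsImg' l) ≠ l))) = true := by
  decide +kernel

/-- The automorphism of a transposed factor. -/
noncomputable def matElT (j : ℕ) : Co0 :=
  if hj : j < 8 then matAut _ _ (mat_check hj).2 (mat_check hj).1 else 1

/-- The automorphism of a transposed word. -/
noncomputable def wElT (w : List ℕ) : Co0 := (w.map matElT).prod

theorem wElT_spec {v : leechLattice} {l : List ℤ} (hv : (v : GolayPt → ℤ) = toVec l) :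
    ∀ {w : List ℕ}, (∀ j ∈ w, j < 8) → ((wElT w • v : leechLattice) : GolayPt → ℤ) = toVec (wImgT w l)
  | [], _ => by
    rw [wElT, List.map_nil, List.prod_nil, one_smul]
    exact hv
  | j :: w, hw => by
    have ih := wElT_spec hv fun i hi => hw i (List.mem_cons_of_mem _ hi)
    have hj := hw j List.mem_cons_self
    rw [wElT, List.map_cons, List.prod_cons, mul_smul, matElT, dif_pos hj, coe_matAut_smul, ← wElT, ih,
      applyMat_toVec]
    rfl

theorem invC_set : CodeSet (toSet invC) := mem_supports.2 ⟨_, mem_golayList_of_inCode invC_code.1, rfl⟩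

theorem range_test : permTest (List.range 24) = true := by decide +kernel

/-- The sign change. -/
noncomputable def eps : Co0 :=
  monoAut (permOf ptEquiv (List.range 24)) (permTest_mem range_test) _ invC_set

theorem eps_spec {v : leechLattice} {l : List ℤ} (hv : (v : GolayPt → ℤ) = toVec l) :
    ((eps • v : leechLattice) : GolayPt → ℤ) = toVec (epsImg l) := mono_spec range_test rfl rfl hv

/-- The conjugated sign change. -/
noncomputable def eps' : Co0 := wEl invW * eps * wElT invW.reverse

theorem eps'_spec {v : leechLattice} {l : List ℤ} (hv : (v : GolayPt → ℤ) = toVec l) :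
    ((eps' • v : leechLattice) : GolayPt → ℤ) = toVec (epsImg' l) := by
  rw [eps', mul_smul, mul_smul]
  exact wEl_spec (eps_spec (wElT_spec hv fun j hj => invW_lt j (List.mem_reverse.1 hj))) invW_lt

/-- The element of order seven inverted by the sign change. -/
noncomputable def invU : Co0 := eps * eps'

theorem invU_spec {v : leechLattice} {l : List ℤ} (hv : (v : GolayPt → ℤ) = toVec l) :
    ((invU • v : leechLattice) : GolayPt → ℤ) = toVec (epsImg (epsImg' l)) := by
  rw [invU, mul_smul]
  exact eps_spec (eps'_spec hv)

theorem invU_pow_spec {v : leechLattice} {l : List ℤ} (hv : (v : GolayPt → ℤ) = toVec l) :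
    ∀ k : ℕ, ((invU ^ k • v : leechLattice) : GolayPt → ℤ) =
      toVec (Nat.iterate (fun x => epsImg (epsImg' x)) k l)
  | 0 => by rw [pow_zero, one_smul, Function.iterate_zero_apply]; exact hv
  | k + 1 => by
    rw [pow_succ', mul_smul, Function.iterate_succ_apply']
    exact invU_spec (invU_pow_spec hv k)

theorem rel_all {l : List ℤ} (hl : l ∈ genList) :
    (Nat.iterate (fun x => epsImg (epsImg' x)) 7 l = l ∧ epsImg' (epsImg' l) = l) ∧ epsImg (epsImg l) = l := by
  refine ⟨⟨seven_of l ?_, ?_⟩, ?_⟩
  · obtain ⟨i, hi, rfl⟩ := List.getElem_of_mem hl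
    have hlen : genList.length = 37 := by decide +kernel
    have h0 := seven_0
    have h1 := seven_1
    have h2 := seven_2
    have h3 := seven_3
    simp only [List.all_eq_true, List.mem_range] at h0 h1 h2 h3
    rw [← List.getD_eq_getElem genList [] hi]
    rcases lt_or_ge i 10 with c | c
    · exact h0 i c
    rcases lt_or_ge i 20 with d | d
    · have := h1 (i - 10) (by omega); rwa [Nat.add_sub_cancel' c] at this
    rcases lt_or_ge i 30 with f | f
    · have := h2 (i - 20) (by omega); rwa [Nat.add_sub_cancel' d] at this
    · have := h3 (i - 30) (by omega); rwa [Nat.add_sub_cancel' f] at this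
  · have h := eps'_ok
    simp only [withRun_eq, List.foldr_append, foldr_eps'Funs, List.all_eq_true] at h
    exact eq_of_sameList (h l hl)
  · have h := eps_ok
    simp only [withRun_eq, List.foldr_cons, List.foldr_nil, List.all_eq_true] at h
    exact eq_of_sameList (h l hl)

theorem invU_pow : invU ^ 7 = 1 :=
  ext_gens fun v l hl hv => Subtype.ext (by rw [invU_pow_spec hv, (rel_all hl).1.1, one_smul, hv])

theorem eps_sq : eps * eps = 1 :=
  ext_gens fun v l hl hv => Subtype.ext (by rw [mul_smul, eps_spec (eps_spec hv), (rel_all hl).2, one_smul, hv])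

theorem eps'_sq : eps' * eps' = 1 :=
  ext_gens fun v l hl hv => Subtype.ext (by rw [mul_smul, eps'_spec (eps'_spec hv), (rel_all hl).1.2, one_smul, hv])

theorem eps_conj : eps * invU * eps = invU⁻¹ := by
  refine eq_inv_of_mul_eq_one_left ?_
  calc eps * invU * eps * invU = (eps * eps) * (eps' * (eps * eps) * eps') := by rw [invU]; group
    _ = 1 := by rw [eps_sq, one_mul, mul_one, eps'_sq]

theorem invU_ne_one : invU ≠ 1 := by
  intro h
  have h1 := inv_fix
  simp only [Bool.and_eq_true, List.any_eq_true, decide_eq_true_eq] at h1
  obtain ⟨-, l, hl, hne⟩ := h1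
  refine hne ?_
  have hv : ((lv l : leechLattice) : GolayPt → ℤ) = toVec l := coe_lv (List.all_eq_true.1 genList_ok l hl)
  have h2 := invU_spec hv
  rw [h, one_smul, hv] at h2
  refine List.ext_getElem ?_ fun i h3 h4 => ?_
  · have : ∀ l ∈ genList, (epsImg (epsImg' l)).length = l.length := by decide +kernel
    exact this l hl
  · have hlen : ∀ l ∈ genList, l.length = 24 := by decide +kernel
    have hi : i < 24 := hlen l hl ▸ h4
    have := congrFun h2 (pt i)
    simp only [toVec, ptEquiv_pt hi, List.getD_eq_getElem _ _ h3, List.getD_eq_getElem _ _ h4] at this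
    exact this.symm

theorem invV_spec : ∃ v : leechLattice, sqNorm (v : GolayPt → ℤ) = 64 ∧ invU • v = v := by
  have h := inv_fix
  simp only [Bool.and_eq_true, decide_eq_true_eq] at h
  obtain ⟨⟨⟨h1, h2⟩, h3⟩, -⟩ := h
  refine ⟨lv invV, ?_, Subtype.ext ?_⟩
  · rw [coe_lv h1, ← h3, ← dotInt_toVec]
    simp [sqNorm, dotInt, pow_two]
  · rw [invU_spec (coe_lv h1), h2, coe_lv h1]

end CfsgLib.MonsterType.Seven
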