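import Cfsg.Agent.Lib.MonsterType.Local.Basis
import Cfsg.Agent.Lib.Leech.CoTwo.LatMat

/-!
# Evaluation of lattice automorphisms on coordinate lists
-/

set_option autoImplicit false
set_option maxRecDepth 100000

namespace CfsgLib.MonsterType.Seven

open Cfsg CfsgLib.Golay CfsgLib.Leech CfsgLib.Leech.CoTwo

/-- The lattice vector with the listed coordinates. -/
def lv (l : List ℤ) : leechLattice :=
  if h : leechTest l = true then ⟨toVec l, mem_of_leechTest h⟩ else 0

theorem coe_lv {l : List ℤ} (h : leechTest l = true) : (lv l : GolayPt → ℤ) = toVec l := by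
  rw [lv, dif_pos h]

/-- The image of a coordinate list under a permutation list. -/
def permImg (L : List ℕ) (l : List ℤ) : List ℤ :=
  (List.range 24).map fun i => l.getD (L.idxOf i) 0

/-- The image of a coordinate list under a sign change. -/
def signImg (c : ℕ) (l : List ℤ) : List ℤ :=
  (List.range 24).map fun i => if c.testBit i then -(l.getD i 0) else l.getD i 0

/-- The difference is twice a lattice vector. -/
def halfOk (a b : List ℤ) : Bool :=
  ((List.range 24).all fun i => (a.getD i 0 - b.getD i 0) % 2 == 0) &&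
    leechTest ((List.range 24).map fun i => (a.getD i 0 - b.getD i 0) / 2)

theorem congr_of_halfOk {u v : leechLattice} {a b : List ℤ} (hu : (u : GolayPt → ℤ) = toVec a)
    (hv : (v : GolayPt → ℤ) = toVec b) (h : halfOk a b = true) : u - v ∈ twoMul leechLattice := by
  simp only [halfOk, Bool.and_eq_true, List.all_eq_true, List.mem_range, beq_iff_eq] at h
  refine mem_twoMul_iff_add.2 ⟨lv ((List.range 24).map fun i => (a.getD i 0 - b.getD i 0) / 2),
    Subtype.ext ?_⟩
  rw [AddSubgroup.coe_add, AddSubgroup.coe_sub, coe_lv h.2, hu, hv]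
  funext p
  simp only [Pi.add_apply, Pi.sub_apply, toVec_range]
  have := h.1 (ptEquiv p).val (ptEquiv p).isLt
  simp only [toVec]
  omega

/-- A valid permutation list with its inverse given by positions. -/
def permTest (L : List ℕ) : Bool :=
  m24Test L && (List.range 24).all fun i => L.idxOf (L.getD i 0) == i

theorem permTest_valid {L : List ℕ} (h : permTest L = true) : validL 24 L = true := by
  simp only [permTest, m24Test, Bool.and_eq_true] at h
  exact h.1.1

theorem permTest_mem {L : List ℕ} (h : permTest L = true) : permOf ptEquiv L ∈ M24 := by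
  simp only [permTest, Bool.and_eq_true] at h
  exact mem_M24_of_test h.1

theorem permOf_symm_val {L : List ℕ} (h : permTest L = true) (p : GolayPt) :
    (ptEquiv ((permOf ptEquiv L).symm p)).val = L.idxOf (ptEquiv p).val := by
  have h1 := permOf_apply ptEquiv (permTest_valid h) ((permOf ptEquiv L).symm p)
  rw [Equiv.apply_symm_apply] at h1
  simp only [permTest, Bool.and_eq_true, List.all_eq_true, List.mem_range, beq_iff_eq] at h
  rw [h1, h.2 _ (ptEquiv _).isLt]

theorem mono_spec {σ : Equiv.Perm GolayPt} {hσ : σ ∈ M24} {c : Finset GolayPt} {hc : CodeSet c}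
    {L : List ℕ} (hL : permTest L = true) (hσL : σ = permOf ptEquiv L) {n : ℕ} (hn : c = toSet n)
    {v : leechLattice} {l : List ℤ} (hv : (v : GolayPt → ℤ) = toVec l) :
    ((monoAut σ hσ c hc • v : leechLattice) : GolayPt → ℤ) = toVec (signImg n (permImg L l)) := by
  funext p
  rw [coe_monoAut_smul, signImg, toVec_range, signedPerm, hv, hσL, hn]
  have hlt := (ptEquiv p).isLt
  have e : toVec l ((permOf ptEquiv L).symm p) = (permImg L l).getD (ptEquiv p).val 0 := by
    rw [toVec, permOf_symm_val hL, permImg]
    simp [List.getD, hlt]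
  simp only [mem_toSet, e]

theorem signImg_zero (l : List ℤ) : signImg 0 l = (List.range 24).map fun i => l.getD i 0 := by
  simp [signImg]

theorem lift_spec {σ : M24} {L : List ℕ} (hL : permTest L = true)
    (hσL : (σ : Equiv.Perm GolayPt) = permOf ptEquiv L) {v : leechLattice} {l : List ℤ}
    (hv : (v : GolayPt → ℤ) = toVec l) :
    (((permLift σ : Co0) • v : leechLattice) : GolayPt → ℤ) = toVec (permImg L l) := by
  have h := mono_spec (hσ := σ.2) (hc := codeSet_empty) hL hσL (n := 0)
    (by ext q; simp [mem_toSet]) hv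
  rw [show (permLift σ : Co0) = monoAut σ σ.2 ∅ codeSet_empty from rfl, h]
  funext p
  rw [signImg_zero, toVec_range]
  rfl

/-- Automorphisms agreeing on the generators are equal. -/
theorem ext_gens {g h : Co0}
    (H : ∀ (v : leechLattice) (l : List ℤ), l ∈ genList → (v : GolayPt → ℤ) = toVec l → g • v = h • v) :
    g = h := by
  refine co_ext fun v => ?_
  have := lat_induction (P := fun x => x ∈ leechLattice ∧ ∀ hx : x ∈ leechLattice,
      g • (⟨x, hx⟩ : leechLattice) = h • ⟨x, hx⟩)
    ⟨zero_mem _, fun hx => by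
      have hz : (⟨0, hx⟩ : leechLattice) = 0 := rfl
      rw [hz, ← actHom_apply, ← actHom_apply, map_zero, map_zero]⟩
    (fun x y ⟨mx, ix⟩ ⟨my, iy⟩ => ⟨add_mem mx my, fun hxy => by
      rw [show (⟨x + y, hxy⟩ : leechLattice) = ⟨x, mx⟩ + ⟨y, my⟩ from rfl, smul_add', smul_add', ix, iy]⟩)
    (fun x ⟨mx, ix⟩ => ⟨neg_mem mx, fun hx => by
      rw [show (⟨-x, hx⟩ : leechLattice) = -⟨x, mx⟩ from rfl, smul_neg', smul_neg', ix]⟩)
    (fun l hl => ⟨mem_of_leechTest (List.all_eq_true.1 genList_ok l hl), fun hx => H _ l hl rfl⟩) v.2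
  exact this.2 v.2

/-- Bit linear extension of a list of images. -/
def linM (img : List ℕ) (m : ℕ) : ℕ :=
  (List.range 6).foldr (fun i acc => if m.testBit i then img.getD i 0 ^^^ acc else acc) 0

end CfsgLib.MonsterType.Seven
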